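/-
GENERATED (see `EqAll`).  FROZEN.
-/
import Cfsg.Agent.Eq.E00

namespace CA.EqAll

theorem realize1x0 : True := by
  have := @Cfsg.Lie.chevB2NegIdx.eq_1
  have := @Cfsg.Lie.chevB2NegIdx.eq_def
  have := @Cfsg.Lie.chevB2NegIdx.congr_simp
  have := @Cfsg.Lie.chevB2Chain4.eq_1
  have := @Cfsg.Lie.chevB2Chain4.eq_def
  have := @Cfsg.Lie.chevB2Chain4.congr_simp
  have := @Cfsg.Lie.chevB2CartanSR.eq_1
  have := @Cfsg.Lie.chevB2CartanSR.eq_def
  have := @Cfsg.Lie.chevB2CartanSR.congr_simp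
  have := @Cfsg.Lie.chevB2.eq_1
  have := @Cfsg.Lie.chevB2.eq_def
  have := @Cfsg.Lie.chevB2.congr_simp
  have := @Cfsg.Lie.chevB2Chain7.eq_1
  have := @Cfsg.Lie.chevB2Chain7.eq_def
  have := @Cfsg.Lie.chevB2Chain7.congr_simp
  have := @Cfsg.Lie.chevG2Coroot.eq_1
  have := @Cfsg.Lie.chevG2Coroot.eq_def
  have := @Cfsg.Lie.chevG2Coroot.congr_simp
  have := @Cfsg.Lie.chevG2Chain8.eq_1
  have := @Cfsg.Lie.chevG2Chain8.eq_def
  have := @Cfsg.Lie.chevG2Chain8.congr_simp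
  have := @Cfsg.Lie.chevG2Chain6.eq_1
  have := @Cfsg.Lie.chevG2Chain6.eq_def
  have := @Cfsg.Lie.chevG2Chain6.congr_simp
  have := @Cfsg.Lie.chevG2Chain0.eq_1
  have := @Cfsg.Lie.chevG2Chain0.eq_def
  have := @Cfsg.Lie.chevG2Chain0.congr_simp
  have := @Cfsg.Lie.chevG2SimpleIdx.eq_1
  have := @Cfsg.Lie.chevG2SimpleIdx.eq_def
  have := @Cfsg.Lie.chevG2SimpleIdx.congr_simp
  have := @Cfsg.Lie.chevG2Chain3.eq_1
  have := @Cfsg.Lie.chevG2Chain3.eq_def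
  have := @Cfsg.Lie.chevG2Chain3.congr_simp
  have := @Cfsg.Lie.chevG2Chain.eq_1
  have := @Cfsg.Lie.chevG2Chain.eq_def
  have := @Cfsg.Lie.chevG2Chain.congr_simp
  have := @Cfsg.Lie.chevG2Chain11.eq_1
  have := @Cfsg.Lie.chevG2Chain11.eq_def
  have := @Cfsg.Lie.chevG2Chain11.congr_simp
  have := @Cfsg.Lie.chevG2Chain2.eq_1
  have := @Cfsg.Lie.chevG2Chain2.eq_def
  have := @Cfsg.Lie.chevG2Chain2.congr_simp
  have := @Cfsg.Lie.chevG2NegIdx.eq_1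
  have := @Cfsg.Lie.chevG2NegIdx.eq_def
  have := @Cfsg.Lie.chevG2NegIdx.congr_simp
  have := @Cfsg.Lie.chevG2Chain7.eq_1
  have := @Cfsg.Lie.chevG2Chain7.eq_def
  have := @Cfsg.Lie.chevG2Chain7.congr_simp
  have := @Cfsg.Lie.chevG2Chain5.eq_1
  have := @Cfsg.Lie.chevG2Chain5.eq_def
  have := @Cfsg.Lie.chevG2Chain5.congr_simp
  have := @Cfsg.Lie.chevG2Chain9.eq_1
  have := @Cfsg.Lie.chevG2Chain9.eq_def
  have := @Cfsg.Lie.chevG2Chain9.congr_simp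
  have := @Cfsg.Lie.chevG2.eq_1
  have := @Cfsg.Lie.chevG2.eq_def
  have := @Cfsg.Lie.chevG2.congr_simp
  have := @Cfsg.Lie.chevG2CartanSR.eq_1
  have := @Cfsg.Lie.chevG2CartanSR.eq_def
  have := @Cfsg.Lie.chevG2CartanSR.congr_simp
  have := @Cfsg.Lie.chevG2Chain1.eq_1
  have := @Cfsg.Lie.chevG2Chain1.eq_def
  have := @Cfsg.Lie.chevG2Chain1.congr_simp
  have := @Cfsg.Lie.chevG2Chain10.eq_1
  have := @Cfsg.Lie.chevG2Chain10.eq_def
  have := @Cfsg.Lie.chevG2Chain10.congr_simp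
  have := @Cfsg.Lie.chevG2Chain4.eq_1
  have := @Cfsg.Lie.chevG2Chain4.eq_def
  have := @Cfsg.Lie.chevG2Chain4.congr_simp
  have := @Cfsg.Lie.ChevalleyDatum.negWord.eq_1.{0}
  have := @Cfsg.Lie.ChevalleyDatum.negWord.eq_def.{0}
  have := @Cfsg.Lie.ChevalleyDatum.negWord.congr_simp.{0}
  have := @Cfsg.Lie.ChevalleyDatum.IsGroupOver.eq_1.{0}
  have := @Cfsg.Lie.ChevalleyDatum.IsGroupOver.eq_def.{0}
  have := @Cfsg.Lie.ChevalleyDatum.IsGroupOver.congr_simp.{0}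
  have := @Cfsg.Lie.ChevalleyDatum.x.eq_1.{0}
  have := @Cfsg.Lie.ChevalleyDatum.x.eq_def.{0}
  have := @Cfsg.Lie.ChevalleyDatum.x.congr_simp.{0}
  have := @Cfsg.Lie.ChevalleyDatum.wordMat.eq_1.{0}
  have := @Cfsg.Lie.ChevalleyDatum.wordMat.eq_def.{0}
  have := @Cfsg.Lie.ChevalleyDatum.wordMat.congr_simp.{0}
  have := @Cfsg.Lie.ChevalleyDatum.genSubgroup.eq_1.{0}
  have := @Cfsg.Lie.ChevalleyDatum.genSubgroup.eq_def.{0}
  have := @Cfsg.Lie.ChevalleyDatum.genSubgroup.congr_simp.{0}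
  have := @Cfsg.Lie.coxeterD4.eq_1
  have := @Cfsg.Lie.coxeterD4.eq_def
  have := @Cfsg.Lie.coxeterD4.congr_simp
  have := @Cfsg.Lie.ChevalleyDatum.chainM.eq_1
  have := @Cfsg.Lie.ChevalleyDatum.chainM.eq_def
  have := @Cfsg.Lie.ChevalleyDatum.chainM.congr_simp
  have := @Cfsg.Lie.ChevalleyDatum.cartan.eq_1
  have := @Cfsg.Lie.ChevalleyDatum.cartan.eq_def
  have := @Cfsg.Lie.ChevalleyDatum.cartan.congr_simp
  have := @Cfsg.Lie.ChevalleyDatum.InRootSub.eq_1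
  have := @Cfsg.Lie.ChevalleyDatum.InRootSub.eq_def
  have := @Cfsg.Lie.ChevalleyDatum.InRootSub.congr_simp
  have := @Cfsg.Lie.ChevalleyDatum.borelSubgroup.eq_1.{0}
  have := @Cfsg.Lie.ChevalleyDatum.borelSubgroup.eq_def.{0}
  have := @Cfsg.Lie.ChevalleyDatum.borelSubgroup.congr_simp.{0}
  have := @Cfsg.Lie.ChevalleyDatum.diagonalSubgroup.eq_1.{0}
  have := @Cfsg.Lie.ChevalleyDatum.diagonalSubgroup.eq_def.{0}
  have := @Cfsg.Lie.ChevalleyDatum.diagonalSubgroup.congr_simp.{0}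
  have := @Cfsg.Lie.ChevalleyDatum.posUnipotent.eq_1.{0}
  have := @Cfsg.Lie.ChevalleyDatum.posUnipotent.eq_def.{0}
  have := @Cfsg.Lie.ChevalleyDatum.posUnipotent.congr_simp.{0}
  have := @Cfsg.Lie.ChevalleyDatum.hWord.eq_1.{0}
  have := @Cfsg.Lie.ChevalleyDatum.hWord.eq_def.{0}
  have := @Cfsg.Lie.ChevalleyDatum.hWord.congr_simp.{0}
  have := @Cfsg.Lie.ChevalleyDatum.monomialSubgroup.eq_1.{0}
  have := @Cfsg.Lie.ChevalleyDatum.monomialSubgroup.eq_def.{0}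
  have := @Cfsg.Lie.ChevalleyDatum.monomialSubgroup.congr_simp.{0}
  have := @Cfsg.Lie.ChevalleyDatum.nWord.eq_1.{0}
  have := @Cfsg.Lie.ChevalleyDatum.nWord.eq_def.{0}
  have := @Cfsg.Lie.ChevalleyDatum.nWord.congr_simp.{0}
  have := @Cfsg.Lie.ChevalleyDatum.IsNegRoot.eq_1
  have := @Cfsg.Lie.ChevalleyDatum.IsNegRoot.eq_def
  have := @Cfsg.Lie.ChevalleyDatum.IsNegRoot.congr_simp
  have := @Cfsg.Lie.ChevalleyDatum.negRoots.eq_1
  have := @Cfsg.Lie.ChevalleyDatum.negRoots.eq_def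
  have := @Cfsg.Lie.ChevalleyDatum.negRoots.congr_simp
  trivial

theorem realize1x1 : True := by
  have := @Cfsg.Lie.ChevalleyDatum.chainEntry.eq_1
  have := @Cfsg.Lie.ChevalleyDatum.chainEntry.eq_def
  have := @Cfsg.Lie.ChevalleyDatum.chainEntry.congr_simp
  have := @Cfsg.Lie.ChevalleyDatum.commWord.eq_1.{0}
  have := @Cfsg.Lie.ChevalleyDatum.commWord.eq_def.{0}
  have := @Cfsg.Lie.ChevalleyDatum.commWord.congr_simp.{0}
  have := @Cfsg.Lie.ChevalleyDatum.IsPosRoot.eq_1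
  have := @Cfsg.Lie.ChevalleyDatum.IsPosRoot.eq_def
  have := @Cfsg.Lie.ChevalleyDatum.IsPosRoot.congr_simp
  have := @Cfsg.Lie.ChevalleyDatum.chainRoot.eq_1
  have := @Cfsg.Lie.ChevalleyDatum.chainRoot.eq_def
  have := @Cfsg.Lie.ChevalleyDatum.chainRoot.congr_simp
  have := @Cfsg.Lie.ChevalleyDatum.hMat.eq_1.{0}
  have := @Cfsg.Lie.ChevalleyDatum.hMat.eq_def.{0}
  have := @Cfsg.Lie.ChevalleyDatum.hMat.congr_simp.{0}
  have := @Cfsg.Lie.ChevalleyDatum.rootSubgroup.eq_1.{0}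
  have := @Cfsg.Lie.ChevalleyDatum.rootSubgroup.eq_def.{0}
  have := @Cfsg.Lie.ChevalleyDatum.rootSubgroup.congr_simp.{0}
  have := @Cfsg.Lie.ChevalleyDatum.leviSubgroup.eq_1.{0}
  have := @Cfsg.Lie.ChevalleyDatum.leviSubgroup.eq_def.{0}
  have := @Cfsg.Lie.ChevalleyDatum.leviSubgroup.congr_simp.{0}
  have := @Cfsg.Lie.ChevalleyDatum.simple.eq_1
  have := @Cfsg.Lie.ChevalleyDatum.simple.eq_def
  have := @Cfsg.Lie.ChevalleyDatum.simple.congr_simp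
  have := @Cfsg.Lie.ChevalleyDatum.neg.eq_1
  have := @Cfsg.Lie.ChevalleyDatum.neg.eq_def
  have := @Cfsg.Lie.ChevalleyDatum.neg.congr_simp
  have := @Cfsg.Lie.ChevalleyDatum.negUnipotent.eq_1.{0}
  have := @Cfsg.Lie.ChevalleyDatum.negUnipotent.eq_def.{0}
  have := @Cfsg.Lie.ChevalleyDatum.negUnipotent.congr_simp.{0}
  have := @Cfsg.Lie.ChevalleyDatum.parabolicSubgroup.eq_1.{0}
  have := @Cfsg.Lie.ChevalleyDatum.parabolicSubgroup.eq_def.{0}
  have := @Cfsg.Lie.ChevalleyDatum.parabolicSubgroup.congr_simp.{0}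
  have := @Cfsg.Lie.ChevalleyDatum.unipotentRadical.eq_1.{0}
  have := @Cfsg.Lie.ChevalleyDatum.unipotentRadical.eq_def.{0}
  have := @Cfsg.Lie.ChevalleyDatum.unipotentRadical.congr_simp.{0}
  have := @Cfsg.Lie.ChevalleyDatum.nMat.eq_1.{0}
  have := @Cfsg.Lie.ChevalleyDatum.nMat.eq_def.{0}
  have := @Cfsg.Lie.ChevalleyDatum.nMat.congr_simp.{0}
  have := @Cfsg.Lie.ChevalleyDatum.reflectRoot.eq_1
  have := @Cfsg.Lie.ChevalleyDatum.reflectRoot.eq_def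
  have := @Cfsg.Lie.ChevalleyDatum.reflectRoot.congr_simp
  have := @Cfsg.Lie.ChevalleyDatum.posRoots.eq_1
  have := @Cfsg.Lie.ChevalleyDatum.posRoots.eq_def
  have := @Cfsg.Lie.ChevalleyDatum.posRoots.congr_simp
  have := @Cfsg.Lie.ChevalleyDatum.commTerms.eq_1
  have := @Cfsg.Lie.ChevalleyDatum.commTerms.eq_def
  have := @Cfsg.Lie.ChevalleyDatum.commTerms.congr_simp
  have := @Cfsg.Lie.I27.eq_1
  have := @Cfsg.Lie.I27.eq_def
  have := @Cfsg.Lie.I27.congr_simp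
  have := @Cfsg.Lie.IsoE6.eq_1.{0}
  have := @Cfsg.Lie.IsoE6.eq_def.{0}
  have := @Cfsg.Lie.IsoE6.congr_simp.{0}
  have := @Cfsg.Lie.cubicT.eq_1.{0}
  have := @Cfsg.Lie.cubicT.eq_def.{0}
  have := @Cfsg.Lie.cubicT.congr_simp.{0}
  have := @Cfsg.Lie.E6.eq_1.{0}
  have := @Cfsg.Lie.E6.eq_def.{0}
  have := @Cfsg.Lie.E6.congr_simp.{0}
  have := @Cfsg.Lie.mat3.eq_1.{0}
  have := @Cfsg.Lie.mat3.eq_def.{0}
  have := @Cfsg.Lie.mat3.congr_simp.{0}
  have := @Cfsg.Lie.funStab.eq_1.{0}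
  have := @Cfsg.Lie.funStab.eq_def.{0}
  have := @Cfsg.Lie.funStab.congr_simp.{0}
  have := @Cfsg.Lie.E6univ.eq_1.{0}
  have := @Cfsg.Lie.E6univ.eq_def.{0}
  have := @Cfsg.Lie.E6univ.congr_simp.{0}
  have := @Cfsg.IsWeaklyClosed.eq_1.{0}
  have := @Cfsg.IsWeaklyClosed.eq_def.{0}
  have := @Cfsg.IsWeaklyClosed.congr_simp.{0}
  have := @Cfsg.IsElementaryAbelian.eq_1.{0}
  have := @Cfsg.IsElementaryAbelian.eq_def.{0}
  have := @Cfsg.IsElementaryAbelian.congr_simp.{0}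
  have := @Cfsg.centerThompsonOf.eq_1.{0}
  have := @Cfsg.centerThompsonOf.eq_def.{0}
  have := @Cfsg.centerThompsonOf.congr_simp.{0}
  have := @Cfsg.pResidual.eq_1.{0}
  have := @Cfsg.pResidual.eq_def.{0}
  have := @Cfsg.pResidual.congr_simp.{0}
  have := @Cfsg.thompsonSubgroupOf.eq_1.{0}
  have := @Cfsg.thompsonSubgroupOf.eq_def.{0}
  have := @Cfsg.thompsonSubgroupOf.congr_simp.{0}
  have := @Cfsg.IsSpecial.eq_1.{0}
  have := @Cfsg.IsSpecial.eq_def.{0}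
  have := @Cfsg.IsSpecial.congr_simp.{0}
  have := @Cfsg.thompsonSubgroup.eq_1.{0}
  have := @Cfsg.thompsonSubgroup.eq_def.{0}
  have := @Cfsg.thompsonSubgroup.congr_simp.{0}
  have := @Cfsg.HasNormalPComplement.eq_1.{0}
  have := @Cfsg.HasNormalPComplement.eq_def.{0}
  have := @Cfsg.HasNormalPComplement.congr_simp.{0}
  have := @Cfsg.IsExtraspecial.eq_1.{0}
  have := @Cfsg.IsExtraspecial.eq_def.{0}
  have := @Cfsg.IsExtraspecial.congr_simp.{0}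
  have := @Cfsg.maxElementaryAbelianSubgroups.eq_1.{0}
  have := @Cfsg.maxElementaryAbelianSubgroups.eq_def.{0}
  have := @Cfsg.maxElementaryAbelianSubgroups.congr_simp.{0}
  have := @Cfsg.IsMinCounterexampleWith.eq_1.{0}
  have := @Cfsg.IsMinCounterexampleWith.eq_def.{0}
  have := @Cfsg.IsMinCounterexampleWith.congr_simp.{0}
  have := @Cfsg.PLengthLE.eq_1.{0}
  have := @Cfsg.PLengthLE.eq_def.{0}
  have := @Cfsg.PLengthLE.congr_simp.{0}
  have := @Cfsg.pLayer.eq_1.{0}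
  have := @Cfsg.pLayer.eq_def.{0}
  have := @Cfsg.pLayer.congr_simp.{0}
  have := @Cfsg.IsKProperWith.eq_1.{0}
  have := @Cfsg.IsKProperWith.eq_def.{0}
  have := @Cfsg.IsKProperWith.congr_simp.{0}
  have := @Cfsg.upperPSeries.eq_1.{0}
  have := @Cfsg.upperPSeries.eq_2.{0}
  have := @Cfsg.upperPSeries.eq_def.{0}
  have := @Cfsg.upperPSeries.congr_simp.{0}
  have := @Cfsg.IsTightlyEmbedded.eq_1.{0}
  have := @Cfsg.IsTightlyEmbedded.eq_def.{0}
  have := @Cfsg.IsTightlyEmbedded.congr_simp.{0}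
  have := @Cfsg.IsKGroupWith.eq_1.{0}
  have := @Cfsg.IsKGroupWith.eq_def.{0}
  trivial

theorem realize1x2 : True := by
  have := @Cfsg.IsKGroupWith.congr_simp.{0}
  have := @Cfsg.pPrimePCore.eq_1.{0}
  have := @Cfsg.pPrimePCore.eq_def.{0}
  have := @Cfsg.pPrimePCore.congr_simp.{0}
  have := @Cfsg.signalizerDelta.eq_1.{0}
  have := @Cfsg.signalizerDelta.eq_def.{0}
  have := @Cfsg.signalizerDelta.congr_simp.{0}
  have := @Cfsg.IsPConstrained.eq_1.{0}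
  have := @Cfsg.IsPConstrained.eq_def.{0}
  have := @Cfsg.IsPConstrained.congr_simp.{0}
  have := @Cfsg.IsBalanced.eq_1.{0}
  have := @Cfsg.IsBalanced.eq_def.{0}
  have := @Cfsg.IsBalanced.congr_simp.{0}
  have := @Cfsg.IsComponent.eq_1.{0}
  have := @Cfsg.IsComponent.eq_def.{0}
  have := @Cfsg.IsComponent.congr_simp.{0}
  have := @Cfsg.centralizerPPrimeCore.eq_1.{0}
  have := @Cfsg.centralizerPPrimeCore.eq_def.{0}
  have := @Cfsg.centralizerPPrimeCore.congr_simp.{0}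
  have := @Cfsg.generalizedFittingSubgroup.eq_1.{0}
  have := @Cfsg.generalizedFittingSubgroup.eq_def.{0}
  have := @Cfsg.generalizedFittingSubgroup.congr_simp.{0}
  have := @Cfsg.IsPSolvable.eq_1.{0}
  have := @Cfsg.IsPSolvable.eq_def.{0}
  have := @Cfsg.IsPSolvable.congr_simp.{0}
  have := @Cfsg.TwoLocalPRankLE.eq_1.{0}
  have := @Cfsg.TwoLocalPRankLE.eq_def.{0}
  have := @Cfsg.TwoLocalPRankLE.congr_simp.{0}
  have := @Cfsg.IsSolvableSignalizerFunctor.eq_1.{0}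
  have := @Cfsg.IsSolvableSignalizerFunctor.eq_def.{0}
  have := @Cfsg.IsSolvableSignalizerFunctor.congr_simp.{0}
  have := @Cfsg.IsPComponent.eq_1.{0}
  have := @Cfsg.IsPComponent.eq_def.{0}
  have := @Cfsg.IsPComponent.congr_simp.{0}
  have := @Cfsg.IsCompleteSignalizerFunctor.eq_1.{0}
  have := @Cfsg.IsCompleteSignalizerFunctor.eq_def.{0}
  have := @Cfsg.IsCompleteSignalizerFunctor.congr_simp.{0}
  have := @Cfsg.signalizerClosure.eq_1.{0}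
  have := @Cfsg.signalizerClosure.eq_def.{0}
  have := @Cfsg.signalizerClosure.congr_simp.{0}
  have := @Cfsg.IsKBalanced.eq_1.{0}
  have := @Cfsg.IsKBalanced.eq_def.{0}
  have := @Cfsg.IsKBalanced.congr_simp.{0}
  have := @Cfsg.IsPStable.eq_1.{0}
  have := @Cfsg.IsPStable.eq_def.{0}
  have := @Cfsg.IsPStable.congr_simp.{0}
  have := @Cfsg.layer.eq_1.{0}
  have := @Cfsg.layer.eq_def.{0}
  have := @Cfsg.layer.congr_simp.{0}
  have := @Cfsg.IsStandardSubgroup.eq_1.{0}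
  have := @Cfsg.IsStandardSubgroup.eq_def.{0}
  have := @Cfsg.IsStandardSubgroup.congr_simp.{0}
  have := @Cfsg.OddTwoLocalRankLE.eq_1.{0}
  have := @Cfsg.OddTwoLocalRankLE.eq_def.{0}
  have := @Cfsg.OddTwoLocalRankLE.congr_simp.{0}
  have := @Cfsg.IsCompositionKGroupWith.eq_1.{0}
  have := @Cfsg.IsCompositionKGroupWith.eq_def.{0}
  have := @Cfsg.IsCompositionKGroupWith.congr_simp.{0}
  have := @Cfsg.IsSignalizerFunctor.eq_1.{0}
  have := @Cfsg.IsSignalizerFunctor.eq_def.{0}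
  have := @Cfsg.IsSignalizerFunctor.congr_simp.{0}
  have := @Cfsg.IsRankGraphVertex.eq_1.{0}
  have := @Cfsg.IsRankGraphVertex.eq_def.{0}
  have := @Cfsg.IsRankGraphVertex.congr_simp.{0}
  have := @Cfsg.IsKConnected.eq_1.{0}
  have := @Cfsg.IsKConnected.eq_def.{0}
  have := @Cfsg.IsKConnected.congr_simp.{0}
  have := @Cfsg.signalizerFamily.eq_1.{0}
  have := @Cfsg.signalizerFamily.eq_def.{0}
  have := @Cfsg.signalizerFamily.congr_simp.{0}
  have := @Cfsg.IsLocallyBalanced.eq_1.{0}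
  have := @Cfsg.IsLocallyBalanced.eq_def.{0}
  have := @Cfsg.IsLocallyBalanced.congr_simp.{0}
  have := @Cfsg.IsLocallyKBalanced.eq_1.{0}
  have := @Cfsg.IsLocallyKBalanced.eq_def.{0}
  have := @Cfsg.IsLocallyKBalanced.congr_simp.{0}
  have := @Cfsg.IsClassicalInvolution.eq_1.{0}
  have := @Cfsg.IsClassicalInvolution.eq_def.{0}
  have := @Cfsg.IsClassicalInvolution.congr_simp.{0}
  have := @Cfsg.IsCoreSeparated.eq_1.{0}
  have := @Cfsg.IsCoreSeparated.eq_def.{0}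
  have := @Cfsg.IsCoreSeparated.congr_simp.{0}
  have := @Cfsg.extendedTwoLayer.eq_1.{0}
  have := @Cfsg.extendedTwoLayer.eq_def.{0}
  have := @Cfsg.extendedTwoLayer.congr_simp.{0}
  have := @Cfsg.HasBProperty.eq_1.{0}
  have := @Cfsg.HasBProperty.eq_def.{0}
  have := @Cfsg.HasBProperty.congr_simp.{0}
  have := @Cfsg.IsBalancedFor.eq_1.{0}
  have := @Cfsg.IsBalancedFor.eq_def.{0}
  have := @Cfsg.IsBalancedFor.congr_simp.{0}
  have := @Cfsg.signalizerInf.eq_1.{0}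
  have := @Cfsg.signalizerInf.eq_def.{0}
  have := @Cfsg.signalizerInf.congr_simp.{0}
  have := @Cfsg.IsRankGraphConnected.eq_1.{0}
  have := @Cfsg.IsRankGraphConnected.eq_def.{0}
  have := @Cfsg.IsRankGraphConnected.congr_simp.{0}
  have := @Cfsg.HasStrongBProperty.eq_1.{0}
  have := @Cfsg.HasStrongBProperty.eq_def.{0}
  have := @Cfsg.HasStrongBProperty.congr_simp.{0}
  have := @Cfsg.kGeneratedCore.eq_1.{0}
  have := @Cfsg.kGeneratedCore.eq_def.{0}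
  have := @Cfsg.kGeneratedCore.congr_simp.{0}
  have := @Cfsg.charCore.eq_1.{0}
  have := @Cfsg.charCore.eq_def.{0}
  have := @Cfsg.charCore.congr_simp.{0}
  have := @Cfsg.IsOfSymplecticType.eq_1.{0}
  have := @Cfsg.IsOfSymplecticType.eq_def.{0}
  have := @Cfsg.IsOfSymplecticType.congr_simp.{0}
  have := @Cfsg.HasProperTwoGeneratedCore.eq_1.{0}
  have := @Cfsg.HasProperTwoGeneratedCore.eq_def.{0}
  have := @Cfsg.HasProperTwoGeneratedCore.congr_simp.{0}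
  have := @Cfsg.IsOfGF2Type.eq_1.{0}
  have := @Cfsg.IsOfGF2Type.eq_def.{0}
  have := @Cfsg.IsOfGF2Type.congr_simp.{0}
  have := @Cfsg.IsOfEvenCharacteristic.eq_1.{0}
  have := @Cfsg.IsOfEvenCharacteristic.eq_def.{0}
  have := @Cfsg.IsOfEvenCharacteristic.congr_simp.{0}
  have := @Cfsg.Lie.chevF4Chain24.eq_1
  have := @Cfsg.Lie.chevF4Chain24.eq_def
  trivial

end CA.EqAll
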