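/-
GENERATED (see `EqAll`).  FROZEN.
-/
import Cfsg.Agent.Eq.E01

namespace CA.EqAll

theorem realize2x0 : True := by
  have := @Cfsg.Lie.chevF4Chain24.congr_simp
  have := @Cfsg.Lie.chevF4Chain1.eq_1
  have := @Cfsg.Lie.chevF4Chain1.eq_def
  have := @Cfsg.Lie.chevF4Chain1.congr_simp
  have := @Cfsg.Lie.chevF4Chain46.eq_1
  have := @Cfsg.Lie.chevF4Chain46.eq_def
  have := @Cfsg.Lie.chevF4Chain46.congr_simp
  have := @Cfsg.Lie.chevF4Chain33.eq_1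
  have := @Cfsg.Lie.chevF4Chain33.eq_def
  have := @Cfsg.Lie.chevF4Chain33.congr_simp
  have := @Cfsg.Lie.chevF4CartanSR.eq_1
  have := @Cfsg.Lie.chevF4CartanSR.eq_def
  have := @Cfsg.Lie.chevF4CartanSR.congr_simp
  have := @Cfsg.Lie.chevF4Chain36.eq_1
  have := @Cfsg.Lie.chevF4Chain36.eq_def
  have := @Cfsg.Lie.chevF4Chain36.congr_simp
  have := @Cfsg.Lie.chevF4Chain7.eq_1
  have := @Cfsg.Lie.chevF4Chain7.eq_def
  have := @Cfsg.Lie.chevF4Chain7.congr_simp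
  have := @Cfsg.Lie.chevF4Chain30.eq_1
  have := @Cfsg.Lie.chevF4Chain30.eq_def
  have := @Cfsg.Lie.chevF4Chain30.congr_simp
  have := @Cfsg.Lie.chevF4Chain27.eq_1
  have := @Cfsg.Lie.chevF4Chain27.eq_def
  have := @Cfsg.Lie.chevF4Chain27.congr_simp
  have := @Cfsg.Lie.chevF4Chain31.eq_1
  have := @Cfsg.Lie.chevF4Chain31.eq_def
  have := @Cfsg.Lie.chevF4Chain31.congr_simp
  have := @Cfsg.Lie.chevF4Chain13.eq_1
  have := @Cfsg.Lie.chevF4Chain13.eq_def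
  have := @Cfsg.Lie.chevF4Chain13.congr_simp
  have := @Cfsg.Lie.chevF4Chain11.eq_1
  have := @Cfsg.Lie.chevF4Chain11.eq_def
  have := @Cfsg.Lie.chevF4Chain11.congr_simp
  have := @Cfsg.Lie.chevF4NegIdx.eq_1
  have := @Cfsg.Lie.chevF4NegIdx.eq_def
  have := @Cfsg.Lie.chevF4NegIdx.congr_simp
  have := @Cfsg.Lie.chevF4Chain8.eq_1
  have := @Cfsg.Lie.chevF4Chain8.eq_def
  have := @Cfsg.Lie.chevF4Chain8.congr_simp
  have := @Cfsg.Lie.chevF4Chain10.eq_1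
  have := @Cfsg.Lie.chevF4Chain10.eq_def
  have := @Cfsg.Lie.chevF4Chain10.congr_simp
  have := @Cfsg.Lie.chevF4Chain4.eq_1
  have := @Cfsg.Lie.chevF4Chain4.eq_def
  have := @Cfsg.Lie.chevF4Chain4.congr_simp
  have := @Cfsg.Lie.chevF4Chain34.eq_1
  have := @Cfsg.Lie.chevF4Chain34.eq_def
  have := @Cfsg.Lie.chevF4Chain34.congr_simp
  have := @Cfsg.Lie.chevF4Chain12.eq_1
  have := @Cfsg.Lie.chevF4Chain12.eq_def
  have := @Cfsg.Lie.chevF4Chain12.congr_simp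
  have := @Cfsg.Lie.chevF4Chain45.eq_1
  have := @Cfsg.Lie.chevF4Chain45.eq_def
  have := @Cfsg.Lie.chevF4Chain45.congr_simp
  have := @Cfsg.Lie.chevF4SimpleIdx.eq_1
  have := @Cfsg.Lie.chevF4SimpleIdx.eq_def
  have := @Cfsg.Lie.chevF4SimpleIdx.congr_simp
  have := @Cfsg.Lie.chevF4Chain17.eq_1
  have := @Cfsg.Lie.chevF4Chain17.eq_def
  have := @Cfsg.Lie.chevF4Chain17.congr_simp
  have := @Cfsg.Lie.chevF4Chain6.eq_1
  have := @Cfsg.Lie.chevF4Chain6.eq_def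
  have := @Cfsg.Lie.chevF4Chain6.congr_simp
  have := @Cfsg.Lie.chevF4Chain38.eq_1
  have := @Cfsg.Lie.chevF4Chain38.eq_def
  have := @Cfsg.Lie.chevF4Chain38.congr_simp
  have := @Cfsg.Lie.chevF4Chain40.eq_1
  have := @Cfsg.Lie.chevF4Chain40.eq_def
  have := @Cfsg.Lie.chevF4Chain40.congr_simp
  have := @Cfsg.Lie.chevF4Chain5.eq_1
  have := @Cfsg.Lie.chevF4Chain5.eq_def
  have := @Cfsg.Lie.chevF4Chain5.congr_simp
  have := @Cfsg.Lie.chevF4Chain23.eq_1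
  have := @Cfsg.Lie.chevF4Chain23.eq_def
  have := @Cfsg.Lie.chevF4Chain23.congr_simp
  have := @Cfsg.Lie.chevF4Chain3.eq_1
  have := @Cfsg.Lie.chevF4Chain3.eq_def
  have := @Cfsg.Lie.chevF4Chain3.congr_simp
  have := @Cfsg.Lie.chevF4Chain20.eq_1
  have := @Cfsg.Lie.chevF4Chain20.eq_def
  have := @Cfsg.Lie.chevF4Chain20.congr_simp
  have := @Cfsg.Lie.chevF4Chain41.eq_1
  have := @Cfsg.Lie.chevF4Chain41.eq_def
  have := @Cfsg.Lie.chevF4Chain41.congr_simp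
  have := @Cfsg.Lie.chevF4Chain18.eq_1
  have := @Cfsg.Lie.chevF4Chain18.eq_def
  have := @Cfsg.Lie.chevF4Chain18.congr_simp
  have := @Cfsg.Lie.chevF4Chain21.eq_1
  have := @Cfsg.Lie.chevF4Chain21.eq_def
  have := @Cfsg.Lie.chevF4Chain21.congr_simp
  have := @Cfsg.Lie.chevF4Chain43.eq_1
  have := @Cfsg.Lie.chevF4Chain43.eq_def
  have := @Cfsg.Lie.chevF4Chain43.congr_simp
  have := @Cfsg.Lie.chevF4Chain32.eq_1
  have := @Cfsg.Lie.chevF4Chain32.eq_def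
  have := @Cfsg.Lie.chevF4Chain32.congr_simp
  have := @Cfsg.Lie.chevF4Chain15.eq_1
  have := @Cfsg.Lie.chevF4Chain15.eq_def
  have := @Cfsg.Lie.chevF4Chain15.congr_simp
  have := @Cfsg.Lie.chevF4Chain47.eq_1
  have := @Cfsg.Lie.chevF4Chain47.eq_def
  have := @Cfsg.Lie.chevF4Chain47.congr_simp
  have := @Cfsg.Lie.chevF4Chain44.eq_1
  have := @Cfsg.Lie.chevF4Chain44.eq_def
  have := @Cfsg.Lie.chevF4Chain44.congr_simp
  have := @Cfsg.Lie.chevF4Chain19.eq_1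
  have := @Cfsg.Lie.chevF4Chain19.eq_def
  have := @Cfsg.Lie.chevF4Chain19.congr_simp
  have := @Cfsg.Lie.chevF4Chain16.eq_1
  have := @Cfsg.Lie.chevF4Chain16.eq_def
  have := @Cfsg.Lie.chevF4Chain16.congr_simp
  have := @Cfsg.Lie.chevF4Chain39.eq_1
  have := @Cfsg.Lie.chevF4Chain39.eq_def
  have := @Cfsg.Lie.chevF4Chain39.congr_simp
  have := @Cfsg.Lie.chevF4Chain28.eq_1
  have := @Cfsg.Lie.chevF4Chain28.eq_def
  have := @Cfsg.Lie.chevF4Chain28.congr_simp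
  have := @Cfsg.Lie.chevF4Chain29.eq_1
  have := @Cfsg.Lie.chevF4Chain29.eq_def
  trivial

theorem realize2x1 : True := by
  have := @Cfsg.Lie.chevF4Chain29.congr_simp
  have := @Cfsg.Lie.chevF4Chain25.eq_1
  have := @Cfsg.Lie.chevF4Chain25.eq_def
  have := @Cfsg.Lie.chevF4Chain25.congr_simp
  have := @Cfsg.Lie.chevF4Chain9.eq_1
  have := @Cfsg.Lie.chevF4Chain9.eq_def
  have := @Cfsg.Lie.chevF4Chain9.congr_simp
  have := @Cfsg.Lie.chevF4Chain14.eq_1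
  have := @Cfsg.Lie.chevF4Chain14.eq_def
  have := @Cfsg.Lie.chevF4Chain14.congr_simp
  have := @Cfsg.Lie.chevF4Coroot.eq_1
  have := @Cfsg.Lie.chevF4Coroot.eq_def
  have := @Cfsg.Lie.chevF4Coroot.congr_simp
  have := @Cfsg.Lie.chevF4Chain.eq_1
  have := @Cfsg.Lie.chevF4Chain.eq_def
  have := @Cfsg.Lie.chevF4Chain.congr_simp
  have := @Cfsg.Lie.chevF4Chain2.eq_1
  have := @Cfsg.Lie.chevF4Chain2.eq_def
  have := @Cfsg.Lie.chevF4Chain2.congr_simp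
  have := @Cfsg.Lie.chevF4Chain22.eq_1
  have := @Cfsg.Lie.chevF4Chain22.eq_def
  have := @Cfsg.Lie.chevF4Chain22.congr_simp
  have := @Cfsg.Lie.chevF4Chain37.eq_1
  have := @Cfsg.Lie.chevF4Chain37.eq_def
  have := @Cfsg.Lie.chevF4Chain37.congr_simp
  have := @Cfsg.Lie.chevF4.eq_1
  have := @Cfsg.Lie.chevF4.eq_def
  have := @Cfsg.Lie.chevF4.congr_simp
  have := @Cfsg.Lie.chevF4Chain42.eq_1
  have := @Cfsg.Lie.chevF4Chain42.eq_def
  have := @Cfsg.Lie.chevF4Chain42.congr_simp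
  have := @Cfsg.Lie.chevF4Chain0.eq_1
  have := @Cfsg.Lie.chevF4Chain0.eq_def
  have := @Cfsg.Lie.chevF4Chain0.congr_simp
  have := @Cfsg.Lie.chevF4Chain26.eq_1
  have := @Cfsg.Lie.chevF4Chain26.eq_def
  have := @Cfsg.Lie.chevF4Chain26.congr_simp
  have := @Cfsg.Lie.chevF4Chain35.eq_1
  have := @Cfsg.Lie.chevF4Chain35.eq_def
  have := @Cfsg.Lie.chevF4Chain35.congr_simp
  have := @Cfsg.Lie.chevE6Chain66.eq_1
  have := @Cfsg.Lie.chevE6Chain66.eq_def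
  have := @Cfsg.Lie.chevE6Chain66.congr_simp
  have := @Cfsg.Lie.chevE6Chain22.eq_1
  have := @Cfsg.Lie.chevE6Chain22.eq_def
  have := @Cfsg.Lie.chevE6Chain22.congr_simp
  have := @Cfsg.Lie.chevE6Chain21.eq_1
  have := @Cfsg.Lie.chevE6Chain21.eq_def
  have := @Cfsg.Lie.chevE6Chain21.congr_simp
  have := @Cfsg.Lie.chevE6Chain63.eq_1
  have := @Cfsg.Lie.chevE6Chain63.eq_def
  have := @Cfsg.Lie.chevE6Chain63.congr_simp
  have := @Cfsg.Lie.chevE6Chain54.eq_1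
  have := @Cfsg.Lie.chevE6Chain54.eq_def
  have := @Cfsg.Lie.chevE6Chain54.congr_simp
  have := @Cfsg.Lie.chevE6Chain46.eq_1
  have := @Cfsg.Lie.chevE6Chain46.eq_def
  have := @Cfsg.Lie.chevE6Chain46.congr_simp
  have := @Cfsg.Lie.chevE6Chain13.eq_1
  have := @Cfsg.Lie.chevE6Chain13.eq_def
  have := @Cfsg.Lie.chevE6Chain13.congr_simp
  have := @Cfsg.Lie.chevE6Chain48.eq_1
  have := @Cfsg.Lie.chevE6Chain48.eq_def
  have := @Cfsg.Lie.chevE6Chain48.congr_simp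
  have := @Cfsg.Lie.chevE6Chain6.eq_1
  have := @Cfsg.Lie.chevE6Chain6.eq_def
  have := @Cfsg.Lie.chevE6Chain6.congr_simp
  have := @Cfsg.Lie.chevE6Chain64.eq_1
  have := @Cfsg.Lie.chevE6Chain64.eq_def
  have := @Cfsg.Lie.chevE6Chain64.congr_simp
  have := @Cfsg.Lie.chevE6Chain2.eq_1
  have := @Cfsg.Lie.chevE6Chain2.eq_def
  have := @Cfsg.Lie.chevE6Chain2.congr_simp
  have := @Cfsg.Lie.chevE6Chain7.eq_1
  have := @Cfsg.Lie.chevE6Chain7.eq_def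
  have := @Cfsg.Lie.chevE6Chain7.congr_simp
  have := @Cfsg.Lie.chevE6Chain25.eq_1
  have := @Cfsg.Lie.chevE6Chain25.eq_def
  have := @Cfsg.Lie.chevE6Chain25.congr_simp
  have := @Cfsg.Lie.chevE6Chain33.eq_1
  have := @Cfsg.Lie.chevE6Chain33.eq_def
  have := @Cfsg.Lie.chevE6Chain33.congr_simp
  have := @Cfsg.Lie.chevE6Chain65.eq_1
  have := @Cfsg.Lie.chevE6Chain65.eq_def
  have := @Cfsg.Lie.chevE6Chain65.congr_simp
  have := @Cfsg.Lie.chevE6Chain12.eq_1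
  have := @Cfsg.Lie.chevE6Chain12.eq_def
  have := @Cfsg.Lie.chevE6Chain12.congr_simp
  have := @Cfsg.Lie.chevE6Chain41.eq_1
  have := @Cfsg.Lie.chevE6Chain41.eq_def
  have := @Cfsg.Lie.chevE6Chain41.congr_simp
  have := @Cfsg.Lie.chevE6Chain11.eq_1
  have := @Cfsg.Lie.chevE6Chain11.eq_def
  have := @Cfsg.Lie.chevE6Chain11.congr_simp
  have := @Cfsg.Lie.chevE6Chain16.eq_1
  have := @Cfsg.Lie.chevE6Chain16.eq_def
  have := @Cfsg.Lie.chevE6Chain16.congr_simp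
  have := @Cfsg.Lie.chevE6Chain34.eq_1
  have := @Cfsg.Lie.chevE6Chain34.eq_def
  have := @Cfsg.Lie.chevE6Chain34.congr_simp
  have := @Cfsg.Lie.chevE6Chain40.eq_1
  have := @Cfsg.Lie.chevE6Chain40.eq_def
  have := @Cfsg.Lie.chevE6Chain40.congr_simp
  have := @Cfsg.Lie.chevE6Chain5.eq_1
  have := @Cfsg.Lie.chevE6Chain5.eq_def
  have := @Cfsg.Lie.chevE6Chain5.congr_simp
  have := @Cfsg.Lie.chevE6Chain47.eq_1
  have := @Cfsg.Lie.chevE6Chain47.eq_def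
  have := @Cfsg.Lie.chevE6Chain47.congr_simp
  have := @Cfsg.Lie.chevE6Chain50.eq_1
  have := @Cfsg.Lie.chevE6Chain50.eq_def
  have := @Cfsg.Lie.chevE6Chain50.congr_simp
  have := @Cfsg.Lie.chevE6Chain18.eq_1
  have := @Cfsg.Lie.chevE6Chain18.eq_def
  have := @Cfsg.Lie.chevE6Chain18.congr_simp
  have := @Cfsg.Lie.chevE6CartanSR.eq_1
  have := @Cfsg.Lie.chevE6CartanSR.eq_def
  have := @Cfsg.Lie.chevE6CartanSR.congr_simp
  have := @Cfsg.Lie.chevE6Chain31.eq_1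
  have := @Cfsg.Lie.chevE6Chain31.eq_def
  trivial

theorem realize2x2 : True := by
  have := @Cfsg.Lie.chevE6Chain31.congr_simp
  have := @Cfsg.Lie.chevE6Chain37.eq_1
  have := @Cfsg.Lie.chevE6Chain37.eq_def
  have := @Cfsg.Lie.chevE6Chain37.congr_simp
  have := @Cfsg.Lie.chevE6Chain43.eq_1
  have := @Cfsg.Lie.chevE6Chain43.eq_def
  have := @Cfsg.Lie.chevE6Chain43.congr_simp
  have := @Cfsg.Lie.chevE6Chain17.eq_1
  have := @Cfsg.Lie.chevE6Chain17.eq_def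
  have := @Cfsg.Lie.chevE6Chain17.congr_simp
  have := @Cfsg.Lie.chevE6Chain4.eq_1
  have := @Cfsg.Lie.chevE6Chain4.eq_def
  have := @Cfsg.Lie.chevE6Chain4.congr_simp
  have := @Cfsg.Lie.chevE6Chain39.eq_1
  have := @Cfsg.Lie.chevE6Chain39.eq_def
  have := @Cfsg.Lie.chevE6Chain39.congr_simp
  have := @Cfsg.Lie.chevE6Chain49.eq_1
  have := @Cfsg.Lie.chevE6Chain49.eq_def
  have := @Cfsg.Lie.chevE6Chain49.congr_simp
  have := @Cfsg.Lie.chevE6Chain70.eq_1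
  have := @Cfsg.Lie.chevE6Chain70.eq_def
  have := @Cfsg.Lie.chevE6Chain70.congr_simp
  have := @Cfsg.Lie.chevE6.eq_1
  have := @Cfsg.Lie.chevE6.eq_def
  have := @Cfsg.Lie.chevE6.congr_simp
  have := @Cfsg.Lie.chevE6Chain36.eq_1
  have := @Cfsg.Lie.chevE6Chain36.eq_def
  have := @Cfsg.Lie.chevE6Chain36.congr_simp
  have := @Cfsg.Lie.chevE6Chain57.eq_1
  have := @Cfsg.Lie.chevE6Chain57.eq_def
  have := @Cfsg.Lie.chevE6Chain57.congr_simp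
  have := @Cfsg.Lie.chevE6Chain56.eq_1
  have := @Cfsg.Lie.chevE6Chain56.eq_def
  have := @Cfsg.Lie.chevE6Chain56.congr_simp
  have := @Cfsg.Lie.chevE6NegIdx.eq_1
  have := @Cfsg.Lie.chevE6NegIdx.eq_def
  have := @Cfsg.Lie.chevE6NegIdx.congr_simp
  have := @Cfsg.Lie.chevE6Chain62.eq_1
  have := @Cfsg.Lie.chevE6Chain62.eq_def
  have := @Cfsg.Lie.chevE6Chain62.congr_simp
  have := @Cfsg.Lie.chevE6SimpleIdx.eq_1
  have := @Cfsg.Lie.chevE6SimpleIdx.eq_def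
  have := @Cfsg.Lie.chevE6SimpleIdx.congr_simp
  have := @Cfsg.Lie.chevE6Chain71.eq_1
  have := @Cfsg.Lie.chevE6Chain71.eq_def
  have := @Cfsg.Lie.chevE6Chain71.congr_simp
  have := @Cfsg.Lie.chevE6Chain24.eq_1
  have := @Cfsg.Lie.chevE6Chain24.eq_def
  have := @Cfsg.Lie.chevE6Chain24.congr_simp
  have := @Cfsg.Lie.chevE6Chain53.eq_1
  have := @Cfsg.Lie.chevE6Chain53.eq_def
  have := @Cfsg.Lie.chevE6Chain53.congr_simp
  have := @Cfsg.Lie.chevE6Chain58.eq_1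
  have := @Cfsg.Lie.chevE6Chain58.eq_def
  have := @Cfsg.Lie.chevE6Chain58.congr_simp
  have := @Cfsg.Lie.chevE6Chain19.eq_1
  have := @Cfsg.Lie.chevE6Chain19.eq_def
  have := @Cfsg.Lie.chevE6Chain19.congr_simp
  have := @Cfsg.Lie.chevE6Chain23.eq_1
  have := @Cfsg.Lie.chevE6Chain23.eq_def
  have := @Cfsg.Lie.chevE6Chain23.congr_simp
  have := @Cfsg.Lie.chevE6Chain26.eq_1
  have := @Cfsg.Lie.chevE6Chain26.eq_def
  have := @Cfsg.Lie.chevE6Chain26.congr_simp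
  have := @Cfsg.Lie.chevE6Chain32.eq_1
  have := @Cfsg.Lie.chevE6Chain32.eq_def
  have := @Cfsg.Lie.chevE6Chain32.congr_simp
  have := @Cfsg.Lie.chevE6Chain51.eq_1
  have := @Cfsg.Lie.chevE6Chain51.eq_def
  have := @Cfsg.Lie.chevE6Chain51.congr_simp
  have := @Cfsg.Lie.chevE6Chain55.eq_1
  have := @Cfsg.Lie.chevE6Chain55.eq_def
  have := @Cfsg.Lie.chevE6Chain55.congr_simp
  have := @Cfsg.Lie.chevE6Chain3.eq_1
  have := @Cfsg.Lie.chevE6Chain3.eq_def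
  have := @Cfsg.Lie.chevE6Chain3.congr_simp
  have := @Cfsg.Lie.chevE6Chain9.eq_1
  have := @Cfsg.Lie.chevE6Chain9.eq_def
  have := @Cfsg.Lie.chevE6Chain9.congr_simp
  have := @Cfsg.Lie.chevE6Chain68.eq_1
  have := @Cfsg.Lie.chevE6Chain68.eq_def
  have := @Cfsg.Lie.chevE6Chain68.congr_simp
  have := @Cfsg.Lie.chevE6Chain20.eq_1
  have := @Cfsg.Lie.chevE6Chain20.eq_def
  have := @Cfsg.Lie.chevE6Chain20.congr_simp
  have := @Cfsg.Lie.chevE6Chain35.eq_1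
  have := @Cfsg.Lie.chevE6Chain35.eq_def
  have := @Cfsg.Lie.chevE6Chain35.congr_simp
  have := @Cfsg.Lie.chevE6Chain29.eq_1
  have := @Cfsg.Lie.chevE6Chain29.eq_def
  have := @Cfsg.Lie.chevE6Chain29.congr_simp
  have := @Cfsg.Lie.chevE6Chain8.eq_1
  have := @Cfsg.Lie.chevE6Chain8.eq_def
  have := @Cfsg.Lie.chevE6Chain8.congr_simp
  have := @Cfsg.Lie.chevE6Chain38.eq_1
  have := @Cfsg.Lie.chevE6Chain38.eq_def
  have := @Cfsg.Lie.chevE6Chain38.congr_simp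
  have := @Cfsg.Lie.chevE6Chain45.eq_1
  have := @Cfsg.Lie.chevE6Chain45.eq_def
  have := @Cfsg.Lie.chevE6Chain45.congr_simp
  have := @Cfsg.Lie.chevE6Chain69.eq_1
  have := @Cfsg.Lie.chevE6Chain69.eq_def
  have := @Cfsg.Lie.chevE6Chain69.congr_simp
  have := @Cfsg.Lie.chevE6Chain.eq_1
  have := @Cfsg.Lie.chevE6Chain.eq_def
  have := @Cfsg.Lie.chevE6Chain.congr_simp
  have := @Cfsg.Lie.chevE6Chain59.eq_1
  have := @Cfsg.Lie.chevE6Chain59.eq_def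
  have := @Cfsg.Lie.chevE6Chain59.congr_simp
  have := @Cfsg.Lie.chevE6Chain30.eq_1
  have := @Cfsg.Lie.chevE6Chain30.eq_def
  have := @Cfsg.Lie.chevE6Chain30.congr_simp
  have := @Cfsg.Lie.chevE6Chain52.eq_1
  have := @Cfsg.Lie.chevE6Chain52.eq_def
  have := @Cfsg.Lie.chevE6Chain52.congr_simp
  have := @Cfsg.Lie.chevE6Chain60.eq_1
  have := @Cfsg.Lie.chevE6Chain60.eq_def
  have := @Cfsg.Lie.chevE6Chain60.congr_simp
  have := @Cfsg.Lie.chevE6Chain61.eq_1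
  have := @Cfsg.Lie.chevE6Chain61.eq_def
  trivial

end CA.EqAll
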