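/-
GENERATED (see `EqAll`).  FROZEN.
-/
import Cfsg.Agent.Eq.E02

namespace CA.EqAll

theorem realize3x0 : True := by
  have := @Cfsg.Lie.chevE6Chain61.congr_simp
  have := @Cfsg.Lie.chevE6Chain15.eq_1
  have := @Cfsg.Lie.chevE6Chain15.eq_def
  have := @Cfsg.Lie.chevE6Chain15.congr_simp
  have := @Cfsg.Lie.chevE6Chain27.eq_1
  have := @Cfsg.Lie.chevE6Chain27.eq_def
  have := @Cfsg.Lie.chevE6Chain27.congr_simp
  have := @Cfsg.Lie.chevE6Chain28.eq_1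
  have := @Cfsg.Lie.chevE6Chain28.eq_def
  have := @Cfsg.Lie.chevE6Chain28.congr_simp
  have := @Cfsg.Lie.chevE6Chain10.eq_1
  have := @Cfsg.Lie.chevE6Chain10.eq_def
  have := @Cfsg.Lie.chevE6Chain10.congr_simp
  have := @Cfsg.Lie.chevE6Chain42.eq_1
  have := @Cfsg.Lie.chevE6Chain42.eq_def
  have := @Cfsg.Lie.chevE6Chain42.congr_simp
  have := @Cfsg.Lie.chevE6Chain44.eq_1
  have := @Cfsg.Lie.chevE6Chain44.eq_def
  have := @Cfsg.Lie.chevE6Chain44.congr_simp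
  have := @Cfsg.Lie.chevE6Coroot.eq_1
  have := @Cfsg.Lie.chevE6Coroot.eq_def
  have := @Cfsg.Lie.chevE6Coroot.congr_simp
  have := @Cfsg.Lie.chevE6Chain0.eq_1
  have := @Cfsg.Lie.chevE6Chain0.eq_def
  have := @Cfsg.Lie.chevE6Chain0.congr_simp
  have := @Cfsg.Lie.chevE6Chain1.eq_1
  have := @Cfsg.Lie.chevE6Chain1.eq_def
  have := @Cfsg.Lie.chevE6Chain1.congr_simp
  have := @Cfsg.Lie.chevE6Chain14.eq_1
  have := @Cfsg.Lie.chevE6Chain14.eq_def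
  have := @Cfsg.Lie.chevE6Chain14.congr_simp
  have := @Cfsg.Lie.chevE6Chain67.eq_1
  have := @Cfsg.Lie.chevE6Chain67.eq_def
  have := @Cfsg.Lie.chevE6Chain67.congr_simp
  have := @Cfsg.Lie.chevE7Chain42.eq_1
  have := @Cfsg.Lie.chevE7Chain42.eq_def
  have := @Cfsg.Lie.chevE7Chain42.congr_simp
  have := @Cfsg.Lie.chevE7Chain108.eq_1
  have := @Cfsg.Lie.chevE7Chain108.eq_def
  have := @Cfsg.Lie.chevE7Chain108.congr_simp
  have := @Cfsg.Lie.chevE7Chain63.eq_1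
  have := @Cfsg.Lie.chevE7Chain63.eq_def
  have := @Cfsg.Lie.chevE7Chain63.congr_simp
  have := @Cfsg.Lie.chevE7.eq_1
  have := @Cfsg.Lie.chevE7.eq_def
  have := @Cfsg.Lie.chevE7.congr_simp
  have := @Cfsg.Lie.chevE7Chain21.eq_1
  have := @Cfsg.Lie.chevE7Chain21.eq_def
  have := @Cfsg.Lie.chevE7Chain21.congr_simp
  have := @Cfsg.Lie.chevE7Chain27.eq_1
  have := @Cfsg.Lie.chevE7Chain27.eq_def
  have := @Cfsg.Lie.chevE7Chain27.congr_simp
  have := @Cfsg.Lie.chevE7Chain101.eq_1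
  have := @Cfsg.Lie.chevE7Chain101.eq_def
  have := @Cfsg.Lie.chevE7Chain101.congr_simp
  have := @Cfsg.Lie.chevE7Chain13.eq_1
  have := @Cfsg.Lie.chevE7Chain13.eq_def
  have := @Cfsg.Lie.chevE7Chain13.congr_simp
  have := @Cfsg.Lie.chevE7Chain52.eq_1
  have := @Cfsg.Lie.chevE7Chain52.eq_def
  have := @Cfsg.Lie.chevE7Chain52.congr_simp
  have := @Cfsg.Lie.chevE7Chain117.eq_1
  have := @Cfsg.Lie.chevE7Chain117.eq_def
  have := @Cfsg.Lie.chevE7Chain117.congr_simp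
  have := @Cfsg.Lie.chevE7SimpleIdx.eq_1
  have := @Cfsg.Lie.chevE7SimpleIdx.eq_def
  have := @Cfsg.Lie.chevE7SimpleIdx.congr_simp
  have := @Cfsg.Lie.chevE7Chain95.eq_1
  have := @Cfsg.Lie.chevE7Chain95.eq_def
  have := @Cfsg.Lie.chevE7Chain95.congr_simp
  have := @Cfsg.Lie.chevE7Chain62.eq_1
  have := @Cfsg.Lie.chevE7Chain62.eq_def
  have := @Cfsg.Lie.chevE7Chain62.congr_simp
  have := @Cfsg.Lie.chevE7Chain56.eq_1
  have := @Cfsg.Lie.chevE7Chain56.eq_def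
  have := @Cfsg.Lie.chevE7Chain56.congr_simp
  have := @Cfsg.Lie.chevE7Chain91.eq_1
  have := @Cfsg.Lie.chevE7Chain91.eq_def
  have := @Cfsg.Lie.chevE7Chain91.congr_simp
  have := @Cfsg.Lie.chevE7Chain50.eq_1
  have := @Cfsg.Lie.chevE7Chain50.eq_def
  have := @Cfsg.Lie.chevE7Chain50.congr_simp
  have := @Cfsg.Lie.chevE7Chain106.eq_1
  have := @Cfsg.Lie.chevE7Chain106.eq_def
  have := @Cfsg.Lie.chevE7Chain106.congr_simp
  have := @Cfsg.Lie.chevE7Chain43.eq_1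
  have := @Cfsg.Lie.chevE7Chain43.eq_def
  have := @Cfsg.Lie.chevE7Chain43.congr_simp
  have := @Cfsg.Lie.chevE7Chain86.eq_1
  have := @Cfsg.Lie.chevE7Chain86.eq_def
  have := @Cfsg.Lie.chevE7Chain86.congr_simp
  have := @Cfsg.Lie.chevE7Chain20.eq_1
  have := @Cfsg.Lie.chevE7Chain20.eq_def
  have := @Cfsg.Lie.chevE7Chain20.congr_simp
  have := @Cfsg.Lie.chevE7Chain109.eq_1
  have := @Cfsg.Lie.chevE7Chain109.eq_def
  have := @Cfsg.Lie.chevE7Chain109.congr_simp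
  have := @Cfsg.Lie.chevE7Chain99.eq_1
  have := @Cfsg.Lie.chevE7Chain99.eq_def
  have := @Cfsg.Lie.chevE7Chain99.congr_simp
  have := @Cfsg.Lie.chevE7Chain10.eq_1
  have := @Cfsg.Lie.chevE7Chain10.eq_def
  have := @Cfsg.Lie.chevE7Chain10.congr_simp
  have := @Cfsg.Lie.chevE7Chain125.eq_1
  have := @Cfsg.Lie.chevE7Chain125.eq_def
  have := @Cfsg.Lie.chevE7Chain125.congr_simp
  have := @Cfsg.Lie.chevE7Chain115.eq_1
  have := @Cfsg.Lie.chevE7Chain115.eq_def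
  have := @Cfsg.Lie.chevE7Chain115.congr_simp
  have := @Cfsg.Lie.chevE7Chain89.eq_1
  have := @Cfsg.Lie.chevE7Chain89.eq_def
  have := @Cfsg.Lie.chevE7Chain89.congr_simp
  have := @Cfsg.Lie.chevE7Chain105.eq_1
  have := @Cfsg.Lie.chevE7Chain105.eq_def
  have := @Cfsg.Lie.chevE7Chain105.congr_simp
  have := @Cfsg.Lie.chevE7Chain47.eq_1
  have := @Cfsg.Lie.chevE7Chain47.eq_def
  have := @Cfsg.Lie.chevE7Chain47.congr_simp
  have := @Cfsg.Lie.chevE7Chain72.eq_1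
  have := @Cfsg.Lie.chevE7Chain72.eq_def
  trivial

theorem realize3x1 : True := by
  have := @Cfsg.Lie.chevE7Chain72.congr_simp
  have := @Cfsg.Lie.chevE7Chain80.eq_1
  have := @Cfsg.Lie.chevE7Chain80.eq_def
  have := @Cfsg.Lie.chevE7Chain80.congr_simp
  have := @Cfsg.Lie.chevE7Chain100.eq_1
  have := @Cfsg.Lie.chevE7Chain100.eq_def
  have := @Cfsg.Lie.chevE7Chain100.congr_simp
  have := @Cfsg.Lie.chevE7Chain110.eq_1
  have := @Cfsg.Lie.chevE7Chain110.eq_def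
  have := @Cfsg.Lie.chevE7Chain110.congr_simp
  have := @Cfsg.Lie.chevE7Chain19.eq_1
  have := @Cfsg.Lie.chevE7Chain19.eq_def
  have := @Cfsg.Lie.chevE7Chain19.congr_simp
  have := @Cfsg.Lie.chevE7Chain11.eq_1
  have := @Cfsg.Lie.chevE7Chain11.eq_def
  have := @Cfsg.Lie.chevE7Chain11.congr_simp
  have := @Cfsg.Lie.chevE7Chain26.eq_1
  have := @Cfsg.Lie.chevE7Chain26.eq_def
  have := @Cfsg.Lie.chevE7Chain26.congr_simp
  have := @Cfsg.Lie.chevE7Chain66.eq_1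
  have := @Cfsg.Lie.chevE7Chain66.eq_def
  have := @Cfsg.Lie.chevE7Chain66.congr_simp
  have := @Cfsg.Lie.chevE7Chain116.eq_1
  have := @Cfsg.Lie.chevE7Chain116.eq_def
  have := @Cfsg.Lie.chevE7Chain116.congr_simp
  have := @Cfsg.Lie.chevE7Chain90.eq_1
  have := @Cfsg.Lie.chevE7Chain90.eq_def
  have := @Cfsg.Lie.chevE7Chain90.congr_simp
  have := @Cfsg.Lie.chevE7Chain32.eq_1
  have := @Cfsg.Lie.chevE7Chain32.eq_def
  have := @Cfsg.Lie.chevE7Chain32.congr_simp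
  have := @Cfsg.Lie.chevE7Chain118.eq_1
  have := @Cfsg.Lie.chevE7Chain118.eq_def
  have := @Cfsg.Lie.chevE7Chain118.congr_simp
  have := @Cfsg.Lie.chevE7Chain76.eq_1
  have := @Cfsg.Lie.chevE7Chain76.eq_def
  have := @Cfsg.Lie.chevE7Chain76.congr_simp
  have := @Cfsg.Lie.chevE7Chain4.eq_1
  have := @Cfsg.Lie.chevE7Chain4.eq_def
  have := @Cfsg.Lie.chevE7Chain4.congr_simp
  have := @Cfsg.Lie.chevE7Chain124.eq_1
  have := @Cfsg.Lie.chevE7Chain124.eq_def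
  have := @Cfsg.Lie.chevE7Chain124.congr_simp
  have := @Cfsg.Lie.chevE7Chain93.eq_1
  have := @Cfsg.Lie.chevE7Chain93.eq_def
  have := @Cfsg.Lie.chevE7Chain93.congr_simp
  have := @Cfsg.Lie.chevE7Chain81.eq_1
  have := @Cfsg.Lie.chevE7Chain81.eq_def
  have := @Cfsg.Lie.chevE7Chain81.congr_simp
  have := @Cfsg.Lie.chevE7Chain94.eq_1
  have := @Cfsg.Lie.chevE7Chain94.eq_def
  have := @Cfsg.Lie.chevE7Chain94.congr_simp
  have := @Cfsg.Lie.chevE7Chain54.eq_1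
  have := @Cfsg.Lie.chevE7Chain54.eq_def
  have := @Cfsg.Lie.chevE7Chain54.congr_simp
  have := @Cfsg.Lie.chevE7Chain41.eq_1
  have := @Cfsg.Lie.chevE7Chain41.eq_def
  have := @Cfsg.Lie.chevE7Chain41.congr_simp
  have := @Cfsg.Lie.chevE7Chain77.eq_1
  have := @Cfsg.Lie.chevE7Chain77.eq_def
  have := @Cfsg.Lie.chevE7Chain77.congr_simp
  have := @Cfsg.Lie.chevE7Chain112.eq_1
  have := @Cfsg.Lie.chevE7Chain112.eq_def
  have := @Cfsg.Lie.chevE7Chain112.congr_simp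
  have := @Cfsg.Lie.chevE7Chain98.eq_1
  have := @Cfsg.Lie.chevE7Chain98.eq_def
  have := @Cfsg.Lie.chevE7Chain98.congr_simp
  have := @Cfsg.Lie.chevE7Chain39.eq_1
  have := @Cfsg.Lie.chevE7Chain39.eq_def
  have := @Cfsg.Lie.chevE7Chain39.congr_simp
  have := @Cfsg.Lie.chevE7CartanSR.eq_1
  have := @Cfsg.Lie.chevE7CartanSR.eq_def
  have := @Cfsg.Lie.chevE7CartanSR.congr_simp
  have := @Cfsg.Lie.chevE7Chain24.eq_1
  have := @Cfsg.Lie.chevE7Chain24.eq_def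
  have := @Cfsg.Lie.chevE7Chain24.congr_simp
  have := @Cfsg.Lie.chevE7Chain35.eq_1
  have := @Cfsg.Lie.chevE7Chain35.eq_def
  have := @Cfsg.Lie.chevE7Chain35.congr_simp
  have := @Cfsg.Lie.chevE7Chain88.eq_1
  have := @Cfsg.Lie.chevE7Chain88.eq_def
  have := @Cfsg.Lie.chevE7Chain88.congr_simp
  have := @Cfsg.Lie.chevE7Chain49.eq_1
  have := @Cfsg.Lie.chevE7Chain49.eq_def
  have := @Cfsg.Lie.chevE7Chain49.congr_simp
  have := @Cfsg.Lie.chevE7Chain37.eq_1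
  have := @Cfsg.Lie.chevE7Chain37.eq_def
  have := @Cfsg.Lie.chevE7Chain37.congr_simp
  have := @Cfsg.Lie.chevE7Chain122.eq_1
  have := @Cfsg.Lie.chevE7Chain122.eq_def
  have := @Cfsg.Lie.chevE7Chain122.congr_simp
  have := @Cfsg.Lie.chevE7Chain71.eq_1
  have := @Cfsg.Lie.chevE7Chain71.eq_def
  have := @Cfsg.Lie.chevE7Chain71.congr_simp
  have := @Cfsg.Lie.chevE7Chain92.eq_1
  have := @Cfsg.Lie.chevE7Chain92.eq_def
  have := @Cfsg.Lie.chevE7Chain92.congr_simp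
  have := @Cfsg.Lie.chevE7Chain44.eq_1
  have := @Cfsg.Lie.chevE7Chain44.eq_def
  have := @Cfsg.Lie.chevE7Chain44.congr_simp
  have := @Cfsg.Lie.chevE7Chain123.eq_1
  have := @Cfsg.Lie.chevE7Chain123.eq_def
  have := @Cfsg.Lie.chevE7Chain123.congr_simp
  have := @Cfsg.Lie.chevE7Chain0.eq_1
  have := @Cfsg.Lie.chevE7Chain0.eq_def
  have := @Cfsg.Lie.chevE7Chain0.congr_simp
  have := @Cfsg.Lie.chevE7Chain73.eq_1
  have := @Cfsg.Lie.chevE7Chain73.eq_def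
  have := @Cfsg.Lie.chevE7Chain73.congr_simp
  have := @Cfsg.Lie.chevE7Chain40.eq_1
  have := @Cfsg.Lie.chevE7Chain40.eq_def
  have := @Cfsg.Lie.chevE7Chain40.congr_simp
  have := @Cfsg.Lie.chevE7Chain34.eq_1
  have := @Cfsg.Lie.chevE7Chain34.eq_def
  have := @Cfsg.Lie.chevE7Chain34.congr_simp
  have := @Cfsg.Lie.chevE7Chain38.eq_1
  have := @Cfsg.Lie.chevE7Chain38.eq_def
  have := @Cfsg.Lie.chevE7Chain38.congr_simp
  have := @Cfsg.Lie.chevE7Chain57.eq_1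
  have := @Cfsg.Lie.chevE7Chain57.eq_def
  trivial

theorem realize3x2 : True := by
  have := @Cfsg.Lie.chevE7Chain57.congr_simp
  have := @Cfsg.Lie.chevE7Chain114.eq_1
  have := @Cfsg.Lie.chevE7Chain114.eq_def
  have := @Cfsg.Lie.chevE7Chain114.congr_simp
  have := @Cfsg.Lie.chevE7Chain12.eq_1
  have := @Cfsg.Lie.chevE7Chain12.eq_def
  have := @Cfsg.Lie.chevE7Chain12.congr_simp
  have := @Cfsg.Lie.chevE7Chain25.eq_1
  have := @Cfsg.Lie.chevE7Chain25.eq_def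
  have := @Cfsg.Lie.chevE7Chain25.congr_simp
  have := @Cfsg.Lie.chevE7Chain7.eq_1
  have := @Cfsg.Lie.chevE7Chain7.eq_def
  have := @Cfsg.Lie.chevE7Chain7.congr_simp
  have := @Cfsg.Lie.chevE7Chain96.eq_1
  have := @Cfsg.Lie.chevE7Chain96.eq_def
  have := @Cfsg.Lie.chevE7Chain96.congr_simp
  have := @Cfsg.Lie.chevE7Chain61.eq_1
  have := @Cfsg.Lie.chevE7Chain61.eq_def
  have := @Cfsg.Lie.chevE7Chain61.congr_simp
  have := @Cfsg.Lie.chevE7Chain87.eq_1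
  have := @Cfsg.Lie.chevE7Chain87.eq_def
  have := @Cfsg.Lie.chevE7Chain87.congr_simp
  have := @Cfsg.Lie.chevE7Chain74.eq_1
  have := @Cfsg.Lie.chevE7Chain74.eq_def
  have := @Cfsg.Lie.chevE7Chain74.congr_simp
  have := @Cfsg.Lie.chevE7Chain65.eq_1
  have := @Cfsg.Lie.chevE7Chain65.eq_def
  have := @Cfsg.Lie.chevE7Chain65.congr_simp
  have := @Cfsg.Lie.chevE7Chain3.eq_1
  have := @Cfsg.Lie.chevE7Chain3.eq_def
  have := @Cfsg.Lie.chevE7Chain3.congr_simp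
  have := @Cfsg.Lie.chevE7Chain83.eq_1
  have := @Cfsg.Lie.chevE7Chain83.eq_def
  have := @Cfsg.Lie.chevE7Chain83.congr_simp
  have := @Cfsg.Lie.chevE7Chain53.eq_1
  have := @Cfsg.Lie.chevE7Chain53.eq_def
  have := @Cfsg.Lie.chevE7Chain53.congr_simp
  have := @Cfsg.Lie.chevE7Chain33.eq_1
  have := @Cfsg.Lie.chevE7Chain33.eq_def
  have := @Cfsg.Lie.chevE7Chain33.congr_simp
  have := @Cfsg.Lie.chevE7Chain48.eq_1
  have := @Cfsg.Lie.chevE7Chain48.eq_def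
  have := @Cfsg.Lie.chevE7Chain48.congr_simp
  have := @Cfsg.Lie.chevE7Chain15.eq_1
  have := @Cfsg.Lie.chevE7Chain15.eq_def
  have := @Cfsg.Lie.chevE7Chain15.congr_simp
  have := @Cfsg.Lie.chevE7Chain120.eq_1
  have := @Cfsg.Lie.chevE7Chain120.eq_def
  have := @Cfsg.Lie.chevE7Chain120.congr_simp
  have := @Cfsg.Lie.chevE7Chain30.eq_1
  have := @Cfsg.Lie.chevE7Chain30.eq_def
  have := @Cfsg.Lie.chevE7Chain30.congr_simp
  have := @Cfsg.Lie.chevE7Chain113.eq_1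
  have := @Cfsg.Lie.chevE7Chain113.eq_def
  have := @Cfsg.Lie.chevE7Chain113.congr_simp
  have := @Cfsg.Lie.chevE7Chain75.eq_1
  have := @Cfsg.Lie.chevE7Chain75.eq_def
  have := @Cfsg.Lie.chevE7Chain75.congr_simp
  have := @Cfsg.Lie.chevE7Chain103.eq_1
  have := @Cfsg.Lie.chevE7Chain103.eq_def
  have := @Cfsg.Lie.chevE7Chain103.congr_simp
  have := @Cfsg.Lie.chevE7Chain31.eq_1
  have := @Cfsg.Lie.chevE7Chain31.eq_def
  have := @Cfsg.Lie.chevE7Chain31.congr_simp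
  have := @Cfsg.Lie.chevE7Chain58.eq_1
  have := @Cfsg.Lie.chevE7Chain58.eq_def
  have := @Cfsg.Lie.chevE7Chain58.congr_simp
  have := @Cfsg.Lie.chevE7Chain.eq_1
  have := @Cfsg.Lie.chevE7Chain.eq_def
  have := @Cfsg.Lie.chevE7Chain.congr_simp
  have := @Cfsg.Lie.chevE7Chain8.eq_1
  have := @Cfsg.Lie.chevE7Chain8.eq_def
  have := @Cfsg.Lie.chevE7Chain8.congr_simp
  have := @Cfsg.Lie.chevE7Chain78.eq_1
  have := @Cfsg.Lie.chevE7Chain78.eq_def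
  have := @Cfsg.Lie.chevE7Chain78.congr_simp
  have := @Cfsg.Lie.chevE7Chain45.eq_1
  have := @Cfsg.Lie.chevE7Chain45.eq_def
  have := @Cfsg.Lie.chevE7Chain45.congr_simp
  have := @Cfsg.Lie.chevE7Chain67.eq_1
  have := @Cfsg.Lie.chevE7Chain67.eq_def
  have := @Cfsg.Lie.chevE7Chain67.congr_simp
  have := @Cfsg.Lie.chevE7Chain9.eq_1
  have := @Cfsg.Lie.chevE7Chain9.eq_def
  have := @Cfsg.Lie.chevE7Chain9.congr_simp
  have := @Cfsg.Lie.chevE7Chain17.eq_1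
  have := @Cfsg.Lie.chevE7Chain17.eq_def
  have := @Cfsg.Lie.chevE7Chain17.congr_simp
  have := @Cfsg.Lie.chevE7Chain18.eq_1
  have := @Cfsg.Lie.chevE7Chain18.eq_def
  have := @Cfsg.Lie.chevE7Chain18.congr_simp
  have := @Cfsg.Lie.chevE7Chain22.eq_1
  have := @Cfsg.Lie.chevE7Chain22.eq_def
  have := @Cfsg.Lie.chevE7Chain22.congr_simp
  have := @Cfsg.Lie.chevE7Chain23.eq_1
  have := @Cfsg.Lie.chevE7Chain23.eq_def
  have := @Cfsg.Lie.chevE7Chain23.congr_simp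
  have := @Cfsg.Lie.chevE7Chain5.eq_1
  have := @Cfsg.Lie.chevE7Chain5.eq_def
  have := @Cfsg.Lie.chevE7Chain5.congr_simp
  have := @Cfsg.Lie.chevE7Chain16.eq_1
  have := @Cfsg.Lie.chevE7Chain16.eq_def
  have := @Cfsg.Lie.chevE7Chain16.congr_simp
  have := @Cfsg.Lie.chevE7Chain111.eq_1
  have := @Cfsg.Lie.chevE7Chain111.eq_def
  have := @Cfsg.Lie.chevE7Chain111.congr_simp
  have := @Cfsg.Lie.chevE7Chain85.eq_1
  have := @Cfsg.Lie.chevE7Chain85.eq_def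
  have := @Cfsg.Lie.chevE7Chain85.congr_simp
  have := @Cfsg.Lie.chevE7Chain69.eq_1
  have := @Cfsg.Lie.chevE7Chain69.eq_def
  have := @Cfsg.Lie.chevE7Chain69.congr_simp
  have := @Cfsg.Lie.chevE7Chain70.eq_1
  have := @Cfsg.Lie.chevE7Chain70.eq_def
  have := @Cfsg.Lie.chevE7Chain70.congr_simp
  have := @Cfsg.Lie.chevE7Chain14.eq_1
  have := @Cfsg.Lie.chevE7Chain14.eq_def
  have := @Cfsg.Lie.chevE7Chain14.congr_simp
  have := @Cfsg.Lie.chevE7Chain121.eq_1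
  have := @Cfsg.Lie.chevE7Chain121.eq_def
  trivial

end CA.EqAll
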