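/-
GENERATED (see `EqAll`).  FROZEN.
-/
import Cfsg.Agent.Eq.E03

namespace CA.EqAll

theorem realize4x0 : True := by
  have := @Cfsg.Lie.chevE7Chain121.congr_simp
  have := @Cfsg.Lie.chevE7Chain51.eq_1
  have := @Cfsg.Lie.chevE7Chain51.eq_def
  have := @Cfsg.Lie.chevE7Chain51.congr_simp
  have := @Cfsg.Lie.chevE7Chain6.eq_1
  have := @Cfsg.Lie.chevE7Chain6.eq_def
  have := @Cfsg.Lie.chevE7Chain6.congr_simp
  have := @Cfsg.Lie.chevE7Chain46.eq_1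
  have := @Cfsg.Lie.chevE7Chain46.eq_def
  have := @Cfsg.Lie.chevE7Chain46.congr_simp
  have := @Cfsg.Lie.chevE7Chain1.eq_1
  have := @Cfsg.Lie.chevE7Chain1.eq_def
  have := @Cfsg.Lie.chevE7Chain1.congr_simp
  have := @Cfsg.Lie.chevE7Chain59.eq_1
  have := @Cfsg.Lie.chevE7Chain59.eq_def
  have := @Cfsg.Lie.chevE7Chain59.congr_simp
  have := @Cfsg.Lie.chevE7Chain104.eq_1
  have := @Cfsg.Lie.chevE7Chain104.eq_def
  have := @Cfsg.Lie.chevE7Chain104.congr_simp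
  have := @Cfsg.Lie.chevE7Chain64.eq_1
  have := @Cfsg.Lie.chevE7Chain64.eq_def
  have := @Cfsg.Lie.chevE7Chain64.congr_simp
  have := @Cfsg.Lie.chevE7Chain68.eq_1
  have := @Cfsg.Lie.chevE7Chain68.eq_def
  have := @Cfsg.Lie.chevE7Chain68.congr_simp
  have := @Cfsg.Lie.chevE7Chain97.eq_1
  have := @Cfsg.Lie.chevE7Chain97.eq_def
  have := @Cfsg.Lie.chevE7Chain97.congr_simp
  have := @Cfsg.Lie.chevE7Chain2.eq_1
  have := @Cfsg.Lie.chevE7Chain2.eq_def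
  have := @Cfsg.Lie.chevE7Chain2.congr_simp
  have := @Cfsg.Lie.chevE7Chain55.eq_1
  have := @Cfsg.Lie.chevE7Chain55.eq_def
  have := @Cfsg.Lie.chevE7Chain55.congr_simp
  have := @Cfsg.Lie.chevE7Chain28.eq_1
  have := @Cfsg.Lie.chevE7Chain28.eq_def
  have := @Cfsg.Lie.chevE7Chain28.congr_simp
  have := @Cfsg.Lie.chevE7Chain119.eq_1
  have := @Cfsg.Lie.chevE7Chain119.eq_def
  have := @Cfsg.Lie.chevE7Chain119.congr_simp
  have := @Cfsg.Lie.chevE7Chain84.eq_1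
  have := @Cfsg.Lie.chevE7Chain84.eq_def
  have := @Cfsg.Lie.chevE7Chain84.congr_simp
  have := @Cfsg.Lie.chevE7Chain107.eq_1
  have := @Cfsg.Lie.chevE7Chain107.eq_def
  have := @Cfsg.Lie.chevE7Chain107.congr_simp
  have := @Cfsg.Lie.chevE7Chain36.eq_1
  have := @Cfsg.Lie.chevE7Chain36.eq_def
  have := @Cfsg.Lie.chevE7Chain36.congr_simp
  have := @Cfsg.Lie.chevE7Chain82.eq_1
  have := @Cfsg.Lie.chevE7Chain82.eq_def
  have := @Cfsg.Lie.chevE7Chain82.congr_simp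
  have := @Cfsg.Lie.chevE7Coroot.eq_1
  have := @Cfsg.Lie.chevE7Coroot.eq_def
  have := @Cfsg.Lie.chevE7Coroot.congr_simp
  have := @Cfsg.Lie.chevE7Chain29.eq_1
  have := @Cfsg.Lie.chevE7Chain29.eq_def
  have := @Cfsg.Lie.chevE7Chain29.congr_simp
  have := @Cfsg.Lie.chevE7Chain79.eq_1
  have := @Cfsg.Lie.chevE7Chain79.eq_def
  have := @Cfsg.Lie.chevE7Chain79.congr_simp
  have := @Cfsg.Lie.chevE7Chain60.eq_1
  have := @Cfsg.Lie.chevE7Chain60.eq_def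
  have := @Cfsg.Lie.chevE7Chain60.congr_simp
  have := @Cfsg.Lie.chevE7Chain102.eq_1
  have := @Cfsg.Lie.chevE7Chain102.eq_def
  have := @Cfsg.Lie.chevE7Chain102.congr_simp
  have := @Cfsg.Lie.chevE7NegIdx.eq_1
  have := @Cfsg.Lie.chevE7NegIdx.eq_def
  have := @Cfsg.Lie.chevE7NegIdx.congr_simp
  have := @Cfsg.Lie.chevE8Chain155.eq_1
  have := @Cfsg.Lie.chevE8Chain155.eq_def
  have := @Cfsg.Lie.chevE8Chain155.congr_simp
  have := @Cfsg.Lie.chevE8Chain78.eq_1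
  have := @Cfsg.Lie.chevE8Chain78.eq_def
  have := @Cfsg.Lie.chevE8Chain78.congr_simp
  have := @Cfsg.Lie.chevE8Chain130.eq_1
  have := @Cfsg.Lie.chevE8Chain130.eq_def
  have := @Cfsg.Lie.chevE8Chain130.congr_simp
  have := @Cfsg.Lie.chevE8Chain88.eq_1
  have := @Cfsg.Lie.chevE8Chain88.eq_def
  have := @Cfsg.Lie.chevE8Chain88.congr_simp
  have := @Cfsg.Lie.chevE8Chain98.eq_1
  have := @Cfsg.Lie.chevE8Chain98.eq_def
  have := @Cfsg.Lie.chevE8Chain98.congr_simp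
  have := @Cfsg.Lie.chevE8Chain131.eq_1
  have := @Cfsg.Lie.chevE8Chain131.eq_def
  have := @Cfsg.Lie.chevE8Chain131.congr_simp
  have := @Cfsg.Lie.chevE8Chain5.eq_1
  have := @Cfsg.Lie.chevE8Chain5.eq_def
  have := @Cfsg.Lie.chevE8Chain5.congr_simp
  have := @Cfsg.Lie.chevE8Chain174.eq_1
  have := @Cfsg.Lie.chevE8Chain174.eq_def
  have := @Cfsg.Lie.chevE8Chain174.congr_simp
  have := @Cfsg.Lie.chevE8Chain217.eq_1
  have := @Cfsg.Lie.chevE8Chain217.eq_def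
  have := @Cfsg.Lie.chevE8Chain217.congr_simp
  have := @Cfsg.Lie.chevE8Chain192.eq_1
  have := @Cfsg.Lie.chevE8Chain192.eq_def
  have := @Cfsg.Lie.chevE8Chain192.congr_simp
  have := @Cfsg.Lie.chevE8Chain33.eq_1
  have := @Cfsg.Lie.chevE8Chain33.eq_def
  have := @Cfsg.Lie.chevE8Chain33.congr_simp
  have := @Cfsg.Lie.chevE8Chain47.eq_1
  have := @Cfsg.Lie.chevE8Chain47.eq_def
  have := @Cfsg.Lie.chevE8Chain47.congr_simp
  have := @Cfsg.Lie.chevE8Chain103.eq_1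
  have := @Cfsg.Lie.chevE8Chain103.eq_def
  have := @Cfsg.Lie.chevE8Chain103.congr_simp
  have := @Cfsg.Lie.chevE8Chain19.eq_1
  have := @Cfsg.Lie.chevE8Chain19.eq_def
  have := @Cfsg.Lie.chevE8Chain19.congr_simp
  have := @Cfsg.Lie.chevE8Chain221.eq_1
  have := @Cfsg.Lie.chevE8Chain221.eq_def
  have := @Cfsg.Lie.chevE8Chain221.congr_simp
  have := @Cfsg.Lie.chevE8Chain42.eq_1
  have := @Cfsg.Lie.chevE8Chain42.eq_def
  have := @Cfsg.Lie.chevE8Chain42.congr_simp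
  have := @Cfsg.Lie.chevE8Chain149.eq_1
  have := @Cfsg.Lie.chevE8Chain149.eq_def
  trivial

theorem realize4x1 : True := by
  have := @Cfsg.Lie.chevE8Chain149.congr_simp
  have := @Cfsg.Lie.chevE8Chain121.eq_1
  have := @Cfsg.Lie.chevE8Chain121.eq_def
  have := @Cfsg.Lie.chevE8Chain121.congr_simp
  have := @Cfsg.Lie.chevE8Chain27.eq_1
  have := @Cfsg.Lie.chevE8Chain27.eq_def
  have := @Cfsg.Lie.chevE8Chain27.congr_simp
  have := @Cfsg.Lie.chevE8SimpleIdx.eq_1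
  have := @Cfsg.Lie.chevE8SimpleIdx.eq_def
  have := @Cfsg.Lie.chevE8SimpleIdx.congr_simp
  have := @Cfsg.Lie.chevE8Chain15.eq_1
  have := @Cfsg.Lie.chevE8Chain15.eq_def
  have := @Cfsg.Lie.chevE8Chain15.congr_simp
  have := @Cfsg.Lie.chevE8Chain31.eq_1
  have := @Cfsg.Lie.chevE8Chain31.eq_def
  have := @Cfsg.Lie.chevE8Chain31.congr_simp
  have := @Cfsg.Lie.chevE8Chain20.eq_1
  have := @Cfsg.Lie.chevE8Chain20.eq_def
  have := @Cfsg.Lie.chevE8Chain20.congr_simp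
  have := @Cfsg.Lie.chevE8Chain208.eq_1
  have := @Cfsg.Lie.chevE8Chain208.eq_def
  have := @Cfsg.Lie.chevE8Chain208.congr_simp
  have := @Cfsg.Lie.chevE8Chain70.eq_1
  have := @Cfsg.Lie.chevE8Chain70.eq_def
  have := @Cfsg.Lie.chevE8Chain70.congr_simp
  have := @Cfsg.Lie.chevE8Chain199.eq_1
  have := @Cfsg.Lie.chevE8Chain199.eq_def
  have := @Cfsg.Lie.chevE8Chain199.congr_simp
  have := @Cfsg.Lie.chevE8Chain188.eq_1
  have := @Cfsg.Lie.chevE8Chain188.eq_def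
  have := @Cfsg.Lie.chevE8Chain188.congr_simp
  have := @Cfsg.Lie.chevE8Chain224.eq_1
  have := @Cfsg.Lie.chevE8Chain224.eq_def
  have := @Cfsg.Lie.chevE8Chain224.congr_simp
  have := @Cfsg.Lie.chevE8Chain162.eq_1
  have := @Cfsg.Lie.chevE8Chain162.eq_def
  have := @Cfsg.Lie.chevE8Chain162.congr_simp
  have := @Cfsg.Lie.chevE8Chain116.eq_1
  have := @Cfsg.Lie.chevE8Chain116.eq_def
  have := @Cfsg.Lie.chevE8Chain116.congr_simp
  have := @Cfsg.Lie.chevE8Chain129.eq_1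
  have := @Cfsg.Lie.chevE8Chain129.eq_def
  have := @Cfsg.Lie.chevE8Chain129.congr_simp
  have := @Cfsg.Lie.chevE8Chain143.eq_1
  have := @Cfsg.Lie.chevE8Chain143.eq_def
  have := @Cfsg.Lie.chevE8Chain143.congr_simp
  have := @Cfsg.Lie.chevE8Chain74.eq_1
  have := @Cfsg.Lie.chevE8Chain74.eq_def
  have := @Cfsg.Lie.chevE8Chain74.congr_simp
  have := @Cfsg.Lie.chevE8Chain64.eq_1
  have := @Cfsg.Lie.chevE8Chain64.eq_def
  have := @Cfsg.Lie.chevE8Chain64.congr_simp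
  have := @Cfsg.Lie.chevE8Chain86.eq_1
  have := @Cfsg.Lie.chevE8Chain86.eq_def
  have := @Cfsg.Lie.chevE8Chain86.congr_simp
  have := @Cfsg.Lie.chevE8Chain213.eq_1
  have := @Cfsg.Lie.chevE8Chain213.eq_def
  have := @Cfsg.Lie.chevE8Chain213.congr_simp
  have := @Cfsg.Lie.chevE8Chain226.eq_1
  have := @Cfsg.Lie.chevE8Chain226.eq_def
  have := @Cfsg.Lie.chevE8Chain226.congr_simp
  have := @Cfsg.Lie.chevE8Chain3.eq_1
  have := @Cfsg.Lie.chevE8Chain3.eq_def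
  have := @Cfsg.Lie.chevE8Chain3.congr_simp
  have := @Cfsg.Lie.chevE8Chain87.eq_1
  have := @Cfsg.Lie.chevE8Chain87.eq_def
  have := @Cfsg.Lie.chevE8Chain87.congr_simp
  have := @Cfsg.Lie.chevE8Chain148.eq_1
  have := @Cfsg.Lie.chevE8Chain148.eq_def
  have := @Cfsg.Lie.chevE8Chain148.congr_simp
  have := @Cfsg.Lie.chevE8Chain239.eq_1
  have := @Cfsg.Lie.chevE8Chain239.eq_def
  have := @Cfsg.Lie.chevE8Chain239.congr_simp
  have := @Cfsg.Lie.chevE8Chain117.eq_1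
  have := @Cfsg.Lie.chevE8Chain117.eq_def
  have := @Cfsg.Lie.chevE8Chain117.congr_simp
  have := @Cfsg.Lie.chevE8Chain195.eq_1
  have := @Cfsg.Lie.chevE8Chain195.eq_def
  have := @Cfsg.Lie.chevE8Chain195.congr_simp
  have := @Cfsg.Lie.chevE8Chain95.eq_1
  have := @Cfsg.Lie.chevE8Chain95.eq_def
  have := @Cfsg.Lie.chevE8Chain95.congr_simp
  have := @Cfsg.Lie.chevE8Chain206.eq_1
  have := @Cfsg.Lie.chevE8Chain206.eq_def
  have := @Cfsg.Lie.chevE8Chain206.congr_simp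
  have := @Cfsg.Lie.chevE8Chain52.eq_1
  have := @Cfsg.Lie.chevE8Chain52.eq_def
  have := @Cfsg.Lie.chevE8Chain52.congr_simp
  have := @Cfsg.Lie.chevE8Chain30.eq_1
  have := @Cfsg.Lie.chevE8Chain30.eq_def
  have := @Cfsg.Lie.chevE8Chain30.congr_simp
  have := @Cfsg.Lie.chevE8Chain17.eq_1
  have := @Cfsg.Lie.chevE8Chain17.eq_def
  have := @Cfsg.Lie.chevE8Chain17.congr_simp
  have := @Cfsg.Lie.chevE8Chain12.eq_1
  have := @Cfsg.Lie.chevE8Chain12.eq_def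
  have := @Cfsg.Lie.chevE8Chain12.congr_simp
  have := @Cfsg.Lie.chevE8Chain207.eq_1
  have := @Cfsg.Lie.chevE8Chain207.eq_def
  have := @Cfsg.Lie.chevE8Chain207.congr_simp
  have := @Cfsg.Lie.chevE8Chain122.eq_1
  have := @Cfsg.Lie.chevE8Chain122.eq_def
  have := @Cfsg.Lie.chevE8Chain122.congr_simp
  have := @Cfsg.Lie.chevE8Chain48.eq_1
  have := @Cfsg.Lie.chevE8Chain48.eq_def
  have := @Cfsg.Lie.chevE8Chain48.congr_simp
  have := @Cfsg.Lie.chevE8Chain197.eq_1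
  have := @Cfsg.Lie.chevE8Chain197.eq_def
  have := @Cfsg.Lie.chevE8Chain197.congr_simp
  have := @Cfsg.Lie.chevE8Chain62.eq_1
  have := @Cfsg.Lie.chevE8Chain62.eq_def
  have := @Cfsg.Lie.chevE8Chain62.congr_simp
  have := @Cfsg.Lie.chevE8Chain210.eq_1
  have := @Cfsg.Lie.chevE8Chain210.eq_def
  have := @Cfsg.Lie.chevE8Chain210.congr_simp
  have := @Cfsg.Lie.chevE8Chain71.eq_1
  have := @Cfsg.Lie.chevE8Chain71.eq_def
  have := @Cfsg.Lie.chevE8Chain71.congr_simp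
  have := @Cfsg.Lie.chevE8Chain185.eq_1
  have := @Cfsg.Lie.chevE8Chain185.eq_def
  trivial

theorem realize4x2 : True := by
  have := @Cfsg.Lie.chevE8Chain185.congr_simp
  have := @Cfsg.Lie.chevE8Chain32.eq_1
  have := @Cfsg.Lie.chevE8Chain32.eq_def
  have := @Cfsg.Lie.chevE8Chain32.congr_simp
  have := @Cfsg.Lie.chevE8Chain34.eq_1
  have := @Cfsg.Lie.chevE8Chain34.eq_def
  have := @Cfsg.Lie.chevE8Chain34.congr_simp
  have := @Cfsg.Lie.chevE8Chain165.eq_1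
  have := @Cfsg.Lie.chevE8Chain165.eq_def
  have := @Cfsg.Lie.chevE8Chain165.congr_simp
  have := @Cfsg.Lie.chevE8Chain6.eq_1
  have := @Cfsg.Lie.chevE8Chain6.eq_def
  have := @Cfsg.Lie.chevE8Chain6.congr_simp
  have := @Cfsg.Lie.chevE8Chain97.eq_1
  have := @Cfsg.Lie.chevE8Chain97.eq_def
  have := @Cfsg.Lie.chevE8Chain97.congr_simp
  have := @Cfsg.Lie.chevE8Chain50.eq_1
  have := @Cfsg.Lie.chevE8Chain50.eq_def
  have := @Cfsg.Lie.chevE8Chain50.congr_simp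
  have := @Cfsg.Lie.chevE8Chain227.eq_1
  have := @Cfsg.Lie.chevE8Chain227.eq_def
  have := @Cfsg.Lie.chevE8Chain227.congr_simp
  have := @Cfsg.Lie.chevE8Chain75.eq_1
  have := @Cfsg.Lie.chevE8Chain75.eq_def
  have := @Cfsg.Lie.chevE8Chain75.congr_simp
  have := @Cfsg.Lie.chevE8Chain156.eq_1
  have := @Cfsg.Lie.chevE8Chain156.eq_def
  have := @Cfsg.Lie.chevE8Chain156.congr_simp
  have := @Cfsg.Lie.chevE8Chain171.eq_1
  have := @Cfsg.Lie.chevE8Chain171.eq_def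
  have := @Cfsg.Lie.chevE8Chain171.congr_simp
  have := @Cfsg.Lie.chevE8Chain218.eq_1
  have := @Cfsg.Lie.chevE8Chain218.eq_def
  have := @Cfsg.Lie.chevE8Chain218.congr_simp
  have := @Cfsg.Lie.chevE8Chain76.eq_1
  have := @Cfsg.Lie.chevE8Chain76.eq_def
  have := @Cfsg.Lie.chevE8Chain76.congr_simp
  have := @Cfsg.Lie.chevE8Chain125.eq_1
  have := @Cfsg.Lie.chevE8Chain125.eq_def
  have := @Cfsg.Lie.chevE8Chain125.congr_simp
  have := @Cfsg.Lie.chevE8Chain212.eq_1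
  have := @Cfsg.Lie.chevE8Chain212.eq_def
  have := @Cfsg.Lie.chevE8Chain212.congr_simp
  have := @Cfsg.Lie.chevE8Chain191.eq_1
  have := @Cfsg.Lie.chevE8Chain191.eq_def
  have := @Cfsg.Lie.chevE8Chain191.congr_simp
  have := @Cfsg.Lie.chevE8Coroot.eq_1
  have := @Cfsg.Lie.chevE8Coroot.eq_def
  have := @Cfsg.Lie.chevE8Coroot.congr_simp
  have := @Cfsg.Lie.chevE8Chain53.eq_1
  have := @Cfsg.Lie.chevE8Chain53.eq_def
  have := @Cfsg.Lie.chevE8Chain53.congr_simp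
  have := @Cfsg.Lie.chevE8Chain37.eq_1
  have := @Cfsg.Lie.chevE8Chain37.eq_def
  have := @Cfsg.Lie.chevE8Chain37.congr_simp
  have := @Cfsg.Lie.chevE8Chain92.eq_1
  have := @Cfsg.Lie.chevE8Chain92.eq_def
  have := @Cfsg.Lie.chevE8Chain92.congr_simp
  have := @Cfsg.Lie.chevE8Chain110.eq_1
  have := @Cfsg.Lie.chevE8Chain110.eq_def
  have := @Cfsg.Lie.chevE8Chain110.congr_simp
  have := @Cfsg.Lie.chevE8Chain201.eq_1
  have := @Cfsg.Lie.chevE8Chain201.eq_def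
  have := @Cfsg.Lie.chevE8Chain201.congr_simp
  have := @Cfsg.Lie.chevE8Chain222.eq_1
  have := @Cfsg.Lie.chevE8Chain222.eq_def
  have := @Cfsg.Lie.chevE8Chain222.congr_simp
  have := @Cfsg.Lie.chevE8Chain82.eq_1
  have := @Cfsg.Lie.chevE8Chain82.eq_def
  have := @Cfsg.Lie.chevE8Chain82.congr_simp
  have := @Cfsg.Lie.chevE8Chain144.eq_1
  have := @Cfsg.Lie.chevE8Chain144.eq_def
  have := @Cfsg.Lie.chevE8Chain144.congr_simp
  have := @Cfsg.Lie.chevE8Chain138.eq_1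
  have := @Cfsg.Lie.chevE8Chain138.eq_def
  have := @Cfsg.Lie.chevE8Chain138.congr_simp
  have := @Cfsg.Lie.chevE8Chain228.eq_1
  have := @Cfsg.Lie.chevE8Chain228.eq_def
  have := @Cfsg.Lie.chevE8Chain228.congr_simp
  have := @Cfsg.Lie.chevE8Chain230.eq_1
  have := @Cfsg.Lie.chevE8Chain230.eq_def
  have := @Cfsg.Lie.chevE8Chain230.congr_simp
  have := @Cfsg.Lie.chevE8Chain55.eq_1
  have := @Cfsg.Lie.chevE8Chain55.eq_def
  have := @Cfsg.Lie.chevE8Chain55.congr_simp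
  have := @Cfsg.Lie.chevE8Chain99.eq_1
  have := @Cfsg.Lie.chevE8Chain99.eq_def
  have := @Cfsg.Lie.chevE8Chain99.congr_simp
  have := @Cfsg.Lie.chevE8Chain119.eq_1
  have := @Cfsg.Lie.chevE8Chain119.eq_def
  have := @Cfsg.Lie.chevE8Chain119.congr_simp
  have := @Cfsg.Lie.chevE8Chain225.eq_1
  have := @Cfsg.Lie.chevE8Chain225.eq_def
  have := @Cfsg.Lie.chevE8Chain225.congr_simp
  have := @Cfsg.Lie.chevE8Chain100.eq_1
  have := @Cfsg.Lie.chevE8Chain100.eq_def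
  have := @Cfsg.Lie.chevE8Chain100.congr_simp
  have := @Cfsg.Lie.chevE8Chain164.eq_1
  have := @Cfsg.Lie.chevE8Chain164.eq_def
  have := @Cfsg.Lie.chevE8Chain164.congr_simp
  have := @Cfsg.Lie.chevE8Chain145.eq_1
  have := @Cfsg.Lie.chevE8Chain145.eq_def
  have := @Cfsg.Lie.chevE8Chain145.congr_simp
  have := @Cfsg.Lie.chevE8Chain104.eq_1
  have := @Cfsg.Lie.chevE8Chain104.eq_def
  have := @Cfsg.Lie.chevE8Chain104.congr_simp
  have := @Cfsg.Lie.chevE8Chain11.eq_1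
  have := @Cfsg.Lie.chevE8Chain11.eq_def
  have := @Cfsg.Lie.chevE8Chain11.congr_simp
  have := @Cfsg.Lie.chevE8Chain170.eq_1
  have := @Cfsg.Lie.chevE8Chain170.eq_def
  have := @Cfsg.Lie.chevE8Chain170.congr_simp
  have := @Cfsg.Lie.chevE8Chain126.eq_1
  have := @Cfsg.Lie.chevE8Chain126.eq_def
  have := @Cfsg.Lie.chevE8Chain126.congr_simp
  have := @Cfsg.Lie.chevE8Chain166.eq_1
  have := @Cfsg.Lie.chevE8Chain166.eq_def
  have := @Cfsg.Lie.chevE8Chain166.congr_simp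
  have := @Cfsg.Lie.chevE8Chain28.eq_1
  have := @Cfsg.Lie.chevE8Chain28.eq_def
  trivial

end CA.EqAll
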