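/-
GENERATED (see `EqAll`).  FROZEN.
-/
import Cfsg.Agent.Eq.E04

namespace CA.EqAll

theorem realize5x0 : True := by
  have := @Cfsg.Lie.chevE8Chain28.congr_simp
  have := @Cfsg.Lie.chevE8Chain128.eq_1
  have := @Cfsg.Lie.chevE8Chain128.eq_def
  have := @Cfsg.Lie.chevE8Chain128.congr_simp
  have := @Cfsg.Lie.chevE8Chain66.eq_1
  have := @Cfsg.Lie.chevE8Chain66.eq_def
  have := @Cfsg.Lie.chevE8Chain66.congr_simp
  have := @Cfsg.Lie.chevE8Chain180.eq_1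
  have := @Cfsg.Lie.chevE8Chain180.eq_def
  have := @Cfsg.Lie.chevE8Chain180.congr_simp
  have := @Cfsg.Lie.chevE8Chain21.eq_1
  have := @Cfsg.Lie.chevE8Chain21.eq_def
  have := @Cfsg.Lie.chevE8Chain21.congr_simp
  have := @Cfsg.Lie.chevE8Chain18.eq_1
  have := @Cfsg.Lie.chevE8Chain18.eq_def
  have := @Cfsg.Lie.chevE8Chain18.congr_simp
  have := @Cfsg.Lie.chevE8Chain22.eq_1
  have := @Cfsg.Lie.chevE8Chain22.eq_def
  have := @Cfsg.Lie.chevE8Chain22.congr_simp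
  have := @Cfsg.Lie.chevE8Chain233.eq_1
  have := @Cfsg.Lie.chevE8Chain233.eq_def
  have := @Cfsg.Lie.chevE8Chain233.congr_simp
  have := @Cfsg.Lie.chevE8Chain9.eq_1
  have := @Cfsg.Lie.chevE8Chain9.eq_def
  have := @Cfsg.Lie.chevE8Chain9.congr_simp
  have := @Cfsg.Lie.chevE8Chain120.eq_1
  have := @Cfsg.Lie.chevE8Chain120.eq_def
  have := @Cfsg.Lie.chevE8Chain120.congr_simp
  have := @Cfsg.Lie.chevE8Chain209.eq_1
  have := @Cfsg.Lie.chevE8Chain209.eq_def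
  have := @Cfsg.Lie.chevE8Chain209.congr_simp
  have := @Cfsg.Lie.chevE8Chain127.eq_1
  have := @Cfsg.Lie.chevE8Chain127.eq_def
  have := @Cfsg.Lie.chevE8Chain127.congr_simp
  have := @Cfsg.Lie.chevE8Chain159.eq_1
  have := @Cfsg.Lie.chevE8Chain159.eq_def
  have := @Cfsg.Lie.chevE8Chain159.congr_simp
  have := @Cfsg.Lie.chevE8Chain198.eq_1
  have := @Cfsg.Lie.chevE8Chain198.eq_def
  have := @Cfsg.Lie.chevE8Chain198.congr_simp
  have := @Cfsg.Lie.chevE8Chain68.eq_1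
  have := @Cfsg.Lie.chevE8Chain68.eq_def
  have := @Cfsg.Lie.chevE8Chain68.congr_simp
  have := @Cfsg.Lie.chevE8Chain158.eq_1
  have := @Cfsg.Lie.chevE8Chain158.eq_def
  have := @Cfsg.Lie.chevE8Chain158.congr_simp
  have := @Cfsg.Lie.chevE8Chain151.eq_1
  have := @Cfsg.Lie.chevE8Chain151.eq_def
  have := @Cfsg.Lie.chevE8Chain151.congr_simp
  have := @Cfsg.Lie.chevE8Chain160.eq_1
  have := @Cfsg.Lie.chevE8Chain160.eq_def
  have := @Cfsg.Lie.chevE8Chain160.congr_simp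
  have := @Cfsg.Lie.chevE8Chain187.eq_1
  have := @Cfsg.Lie.chevE8Chain187.eq_def
  have := @Cfsg.Lie.chevE8Chain187.congr_simp
  have := @Cfsg.Lie.chevE8Chain45.eq_1
  have := @Cfsg.Lie.chevE8Chain45.eq_def
  have := @Cfsg.Lie.chevE8Chain45.congr_simp
  have := @Cfsg.Lie.chevE8Chain63.eq_1
  have := @Cfsg.Lie.chevE8Chain63.eq_def
  have := @Cfsg.Lie.chevE8Chain63.congr_simp
  have := @Cfsg.Lie.chevE8Chain73.eq_1
  have := @Cfsg.Lie.chevE8Chain73.eq_def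
  have := @Cfsg.Lie.chevE8Chain73.congr_simp
  have := @Cfsg.Lie.chevE8Chain26.eq_1
  have := @Cfsg.Lie.chevE8Chain26.eq_def
  have := @Cfsg.Lie.chevE8Chain26.congr_simp
  have := @Cfsg.Lie.chevE8Chain114.eq_1
  have := @Cfsg.Lie.chevE8Chain114.eq_def
  have := @Cfsg.Lie.chevE8Chain114.congr_simp
  have := @Cfsg.Lie.chevE8Chain178.eq_1
  have := @Cfsg.Lie.chevE8Chain178.eq_def
  have := @Cfsg.Lie.chevE8Chain178.congr_simp
  have := @Cfsg.Lie.chevE8Chain132.eq_1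
  have := @Cfsg.Lie.chevE8Chain132.eq_def
  have := @Cfsg.Lie.chevE8Chain132.congr_simp
  have := @Cfsg.Lie.chevE8Chain184.eq_1
  have := @Cfsg.Lie.chevE8Chain184.eq_def
  have := @Cfsg.Lie.chevE8Chain184.congr_simp
  have := @Cfsg.Lie.chevE8Chain157.eq_1
  have := @Cfsg.Lie.chevE8Chain157.eq_def
  have := @Cfsg.Lie.chevE8Chain157.congr_simp
  have := @Cfsg.Lie.chevE8Chain81.eq_1
  have := @Cfsg.Lie.chevE8Chain81.eq_def
  have := @Cfsg.Lie.chevE8Chain81.congr_simp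
  have := @Cfsg.Lie.chevE8Chain43.eq_1
  have := @Cfsg.Lie.chevE8Chain43.eq_def
  have := @Cfsg.Lie.chevE8Chain43.congr_simp
  have := @Cfsg.Lie.chevE8Chain24.eq_1
  have := @Cfsg.Lie.chevE8Chain24.eq_def
  have := @Cfsg.Lie.chevE8Chain24.congr_simp
  have := @Cfsg.Lie.chevE8Chain10.eq_1
  have := @Cfsg.Lie.chevE8Chain10.eq_def
  have := @Cfsg.Lie.chevE8Chain10.congr_simp
  have := @Cfsg.Lie.chevE8Chain8.eq_1
  have := @Cfsg.Lie.chevE8Chain8.eq_def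
  have := @Cfsg.Lie.chevE8Chain8.congr_simp
  have := @Cfsg.Lie.chevE8Chain186.eq_1
  have := @Cfsg.Lie.chevE8Chain186.eq_def
  have := @Cfsg.Lie.chevE8Chain186.congr_simp
  have := @Cfsg.Lie.chevE8Chain214.eq_1
  have := @Cfsg.Lie.chevE8Chain214.eq_def
  have := @Cfsg.Lie.chevE8Chain214.congr_simp
  have := @Cfsg.Lie.chevE8Chain216.eq_1
  have := @Cfsg.Lie.chevE8Chain216.eq_def
  have := @Cfsg.Lie.chevE8Chain216.congr_simp
  have := @Cfsg.Lie.chevE8Chain40.eq_1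
  have := @Cfsg.Lie.chevE8Chain40.eq_def
  have := @Cfsg.Lie.chevE8Chain40.congr_simp
  have := @Cfsg.Lie.chevE8Chain154.eq_1
  have := @Cfsg.Lie.chevE8Chain154.eq_def
  have := @Cfsg.Lie.chevE8Chain154.congr_simp
  have := @Cfsg.Lie.chevE8Chain219.eq_1
  have := @Cfsg.Lie.chevE8Chain219.eq_def
  have := @Cfsg.Lie.chevE8Chain219.congr_simp
  have := @Cfsg.Lie.chevE8NegIdx.eq_1
  have := @Cfsg.Lie.chevE8NegIdx.eq_def
  have := @Cfsg.Lie.chevE8NegIdx.congr_simp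
  have := @Cfsg.Lie.chevE8Chain140.eq_1
  have := @Cfsg.Lie.chevE8Chain140.eq_def
  trivial

theorem realize5x1 : True := by
  have := @Cfsg.Lie.chevE8Chain140.congr_simp
  have := @Cfsg.Lie.chevE8Chain146.eq_1
  have := @Cfsg.Lie.chevE8Chain146.eq_def
  have := @Cfsg.Lie.chevE8Chain146.congr_simp
  have := @Cfsg.Lie.chevE8Chain238.eq_1
  have := @Cfsg.Lie.chevE8Chain238.eq_def
  have := @Cfsg.Lie.chevE8Chain238.congr_simp
  have := @Cfsg.Lie.chevE8Chain232.eq_1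
  have := @Cfsg.Lie.chevE8Chain232.eq_def
  have := @Cfsg.Lie.chevE8Chain232.congr_simp
  have := @Cfsg.Lie.chevE8Chain167.eq_1
  have := @Cfsg.Lie.chevE8Chain167.eq_def
  have := @Cfsg.Lie.chevE8Chain167.congr_simp
  have := @Cfsg.Lie.chevE8Chain236.eq_1
  have := @Cfsg.Lie.chevE8Chain236.eq_def
  have := @Cfsg.Lie.chevE8Chain236.congr_simp
  have := @Cfsg.Lie.chevE8Chain118.eq_1
  have := @Cfsg.Lie.chevE8Chain118.eq_def
  have := @Cfsg.Lie.chevE8Chain118.congr_simp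
  have := @Cfsg.Lie.chevE8Chain49.eq_1
  have := @Cfsg.Lie.chevE8Chain49.eq_def
  have := @Cfsg.Lie.chevE8Chain49.congr_simp
  have := @Cfsg.Lie.chevE8Chain101.eq_1
  have := @Cfsg.Lie.chevE8Chain101.eq_def
  have := @Cfsg.Lie.chevE8Chain101.congr_simp
  have := @Cfsg.Lie.chevE8Chain203.eq_1
  have := @Cfsg.Lie.chevE8Chain203.eq_def
  have := @Cfsg.Lie.chevE8Chain203.congr_simp
  have := @Cfsg.Lie.chevE8Chain220.eq_1
  have := @Cfsg.Lie.chevE8Chain220.eq_def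
  have := @Cfsg.Lie.chevE8Chain220.congr_simp
  have := @Cfsg.Lie.chevE8Chain35.eq_1
  have := @Cfsg.Lie.chevE8Chain35.eq_def
  have := @Cfsg.Lie.chevE8Chain35.congr_simp
  have := @Cfsg.Lie.chevE8Chain51.eq_1
  have := @Cfsg.Lie.chevE8Chain51.eq_def
  have := @Cfsg.Lie.chevE8Chain51.congr_simp
  have := @Cfsg.Lie.chevE8Chain83.eq_1
  have := @Cfsg.Lie.chevE8Chain83.eq_def
  have := @Cfsg.Lie.chevE8Chain83.congr_simp
  have := @Cfsg.Lie.chevE8Chain168.eq_1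
  have := @Cfsg.Lie.chevE8Chain168.eq_def
  have := @Cfsg.Lie.chevE8Chain168.congr_simp
  have := @Cfsg.Lie.chevE8Chain44.eq_1
  have := @Cfsg.Lie.chevE8Chain44.eq_def
  have := @Cfsg.Lie.chevE8Chain44.congr_simp
  have := @Cfsg.Lie.chevE8Chain237.eq_1
  have := @Cfsg.Lie.chevE8Chain237.eq_def
  have := @Cfsg.Lie.chevE8Chain237.congr_simp
  have := @Cfsg.Lie.chevE8Chain183.eq_1
  have := @Cfsg.Lie.chevE8Chain183.eq_def
  have := @Cfsg.Lie.chevE8Chain183.congr_simp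
  have := @Cfsg.Lie.chevE8Chain39.eq_1
  have := @Cfsg.Lie.chevE8Chain39.eq_def
  have := @Cfsg.Lie.chevE8Chain39.congr_simp
  have := @Cfsg.Lie.chevE8Chain200.eq_1
  have := @Cfsg.Lie.chevE8Chain200.eq_def
  have := @Cfsg.Lie.chevE8Chain200.congr_simp
  have := @Cfsg.Lie.chevE8Chain112.eq_1
  have := @Cfsg.Lie.chevE8Chain112.eq_def
  have := @Cfsg.Lie.chevE8Chain112.congr_simp
  have := @Cfsg.Lie.chevE8Chain153.eq_1
  have := @Cfsg.Lie.chevE8Chain153.eq_def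
  have := @Cfsg.Lie.chevE8Chain153.congr_simp
  have := @Cfsg.Lie.chevE8Chain134.eq_1
  have := @Cfsg.Lie.chevE8Chain134.eq_def
  have := @Cfsg.Lie.chevE8Chain134.congr_simp
  have := @Cfsg.Lie.chevE8Chain16.eq_1
  have := @Cfsg.Lie.chevE8Chain16.eq_def
  have := @Cfsg.Lie.chevE8Chain16.congr_simp
  have := @Cfsg.Lie.chevE8Chain23.eq_1
  have := @Cfsg.Lie.chevE8Chain23.eq_def
  have := @Cfsg.Lie.chevE8Chain23.congr_simp
  have := @Cfsg.Lie.chevE8Chain46.eq_1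
  have := @Cfsg.Lie.chevE8Chain46.eq_def
  have := @Cfsg.Lie.chevE8Chain46.congr_simp
  have := @Cfsg.Lie.chevE8Chain89.eq_1
  have := @Cfsg.Lie.chevE8Chain89.eq_def
  have := @Cfsg.Lie.chevE8Chain89.congr_simp
  have := @Cfsg.Lie.chevE8Chain58.eq_1
  have := @Cfsg.Lie.chevE8Chain58.eq_def
  have := @Cfsg.Lie.chevE8Chain58.congr_simp
  have := @Cfsg.Lie.chevE8Chain96.eq_1
  have := @Cfsg.Lie.chevE8Chain96.eq_def
  have := @Cfsg.Lie.chevE8Chain96.congr_simp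
  have := @Cfsg.Lie.chevE8Chain139.eq_1
  have := @Cfsg.Lie.chevE8Chain139.eq_def
  have := @Cfsg.Lie.chevE8Chain139.congr_simp
  have := @Cfsg.Lie.chevE8Chain0.eq_1
  have := @Cfsg.Lie.chevE8Chain0.eq_def
  have := @Cfsg.Lie.chevE8Chain0.congr_simp
  have := @Cfsg.Lie.chevE8CartanSR.eq_1
  have := @Cfsg.Lie.chevE8CartanSR.eq_def
  have := @Cfsg.Lie.chevE8CartanSR.congr_simp
  have := @Cfsg.Lie.chevE8Chain231.eq_1
  have := @Cfsg.Lie.chevE8Chain231.eq_def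
  have := @Cfsg.Lie.chevE8Chain231.congr_simp
  have := @Cfsg.Lie.chevE8Chain123.eq_1
  have := @Cfsg.Lie.chevE8Chain123.eq_def
  have := @Cfsg.Lie.chevE8Chain123.congr_simp
  have := @Cfsg.Lie.chevE8Chain93.eq_1
  have := @Cfsg.Lie.chevE8Chain93.eq_def
  have := @Cfsg.Lie.chevE8Chain93.congr_simp
  have := @Cfsg.Lie.chevE8Chain176.eq_1
  have := @Cfsg.Lie.chevE8Chain176.eq_def
  have := @Cfsg.Lie.chevE8Chain176.congr_simp
  have := @Cfsg.Lie.chevE8Chain182.eq_1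
  have := @Cfsg.Lie.chevE8Chain182.eq_def
  have := @Cfsg.Lie.chevE8Chain182.congr_simp
  have := @Cfsg.Lie.chevE8Chain84.eq_1
  have := @Cfsg.Lie.chevE8Chain84.eq_def
  have := @Cfsg.Lie.chevE8Chain84.congr_simp
  have := @Cfsg.Lie.chevE8Chain94.eq_1
  have := @Cfsg.Lie.chevE8Chain94.eq_def
  have := @Cfsg.Lie.chevE8Chain94.congr_simp
  have := @Cfsg.Lie.chevE8Chain29.eq_1
  have := @Cfsg.Lie.chevE8Chain29.eq_def
  have := @Cfsg.Lie.chevE8Chain29.congr_simp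
  have := @Cfsg.Lie.chevE8Chain13.eq_1
  have := @Cfsg.Lie.chevE8Chain13.eq_def
  trivial

theorem realize5x2 : True := by
  have := @Cfsg.Lie.chevE8Chain13.congr_simp
  have := @Cfsg.Lie.chevE8Chain113.eq_1
  have := @Cfsg.Lie.chevE8Chain113.eq_def
  have := @Cfsg.Lie.chevE8Chain113.congr_simp
  have := @Cfsg.Lie.chevE8Chain163.eq_1
  have := @Cfsg.Lie.chevE8Chain163.eq_def
  have := @Cfsg.Lie.chevE8Chain163.congr_simp
  have := @Cfsg.Lie.chevE8Chain85.eq_1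
  have := @Cfsg.Lie.chevE8Chain85.eq_def
  have := @Cfsg.Lie.chevE8Chain85.congr_simp
  have := @Cfsg.Lie.chevE8Chain107.eq_1
  have := @Cfsg.Lie.chevE8Chain107.eq_def
  have := @Cfsg.Lie.chevE8Chain107.congr_simp
  have := @Cfsg.Lie.chevE8Chain7.eq_1
  have := @Cfsg.Lie.chevE8Chain7.eq_def
  have := @Cfsg.Lie.chevE8Chain7.congr_simp
  have := @Cfsg.Lie.chevE8Chain59.eq_1
  have := @Cfsg.Lie.chevE8Chain59.eq_def
  have := @Cfsg.Lie.chevE8Chain59.congr_simp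
  have := @Cfsg.Lie.chevE8Chain72.eq_1
  have := @Cfsg.Lie.chevE8Chain72.eq_def
  have := @Cfsg.Lie.chevE8Chain72.congr_simp
  have := @Cfsg.Lie.chevE8Chain135.eq_1
  have := @Cfsg.Lie.chevE8Chain135.eq_def
  have := @Cfsg.Lie.chevE8Chain135.congr_simp
  have := @Cfsg.Lie.chevE8Chain152.eq_1
  have := @Cfsg.Lie.chevE8Chain152.eq_def
  have := @Cfsg.Lie.chevE8Chain152.congr_simp
  have := @Cfsg.Lie.chevE8Chain141.eq_1
  have := @Cfsg.Lie.chevE8Chain141.eq_def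
  have := @Cfsg.Lie.chevE8Chain141.congr_simp
  have := @Cfsg.Lie.chevE8Chain41.eq_1
  have := @Cfsg.Lie.chevE8Chain41.eq_def
  have := @Cfsg.Lie.chevE8Chain41.congr_simp
  have := @Cfsg.Lie.chevE8Chain77.eq_1
  have := @Cfsg.Lie.chevE8Chain77.eq_def
  have := @Cfsg.Lie.chevE8Chain77.congr_simp
  have := @Cfsg.Lie.chevE8Chain196.eq_1
  have := @Cfsg.Lie.chevE8Chain196.eq_def
  have := @Cfsg.Lie.chevE8Chain196.congr_simp
  have := @Cfsg.Lie.chevE8Chain60.eq_1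
  have := @Cfsg.Lie.chevE8Chain60.eq_def
  have := @Cfsg.Lie.chevE8Chain60.congr_simp
  have := @Cfsg.Lie.chevE8Chain105.eq_1
  have := @Cfsg.Lie.chevE8Chain105.eq_def
  have := @Cfsg.Lie.chevE8Chain105.congr_simp
  have := @Cfsg.Lie.chevE8Chain235.eq_1
  have := @Cfsg.Lie.chevE8Chain235.eq_def
  have := @Cfsg.Lie.chevE8Chain235.congr_simp
  have := @Cfsg.Lie.chevE8Chain38.eq_1
  have := @Cfsg.Lie.chevE8Chain38.eq_def
  have := @Cfsg.Lie.chevE8Chain38.congr_simp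
  have := @Cfsg.Lie.chevE8Chain147.eq_1
  have := @Cfsg.Lie.chevE8Chain147.eq_def
  have := @Cfsg.Lie.chevE8Chain147.congr_simp
  have := @Cfsg.Lie.chevE8Chain177.eq_1
  have := @Cfsg.Lie.chevE8Chain177.eq_def
  have := @Cfsg.Lie.chevE8Chain177.congr_simp
  have := @Cfsg.Lie.chevE8Chain150.eq_1
  have := @Cfsg.Lie.chevE8Chain150.eq_def
  have := @Cfsg.Lie.chevE8Chain150.congr_simp
  have := @Cfsg.Lie.chevE8Chain194.eq_1
  have := @Cfsg.Lie.chevE8Chain194.eq_def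
  have := @Cfsg.Lie.chevE8Chain194.congr_simp
  have := @Cfsg.Lie.chevE8Chain202.eq_1
  have := @Cfsg.Lie.chevE8Chain202.eq_def
  have := @Cfsg.Lie.chevE8Chain202.congr_simp
  have := @Cfsg.Lie.chevE8Chain80.eq_1
  have := @Cfsg.Lie.chevE8Chain80.eq_def
  have := @Cfsg.Lie.chevE8Chain80.congr_simp
  have := @Cfsg.Lie.chevE8Chain108.eq_1
  have := @Cfsg.Lie.chevE8Chain108.eq_def
  have := @Cfsg.Lie.chevE8Chain108.congr_simp
  have := @Cfsg.Lie.chevE8Chain106.eq_1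
  have := @Cfsg.Lie.chevE8Chain106.eq_def
  have := @Cfsg.Lie.chevE8Chain106.congr_simp
  have := @Cfsg.Lie.chevE8Chain211.eq_1
  have := @Cfsg.Lie.chevE8Chain211.eq_def
  have := @Cfsg.Lie.chevE8Chain211.congr_simp
  have := @Cfsg.Lie.chevE8Chain169.eq_1
  have := @Cfsg.Lie.chevE8Chain169.eq_def
  have := @Cfsg.Lie.chevE8Chain169.congr_simp
  have := @Cfsg.Lie.chevE8Chain133.eq_1
  have := @Cfsg.Lie.chevE8Chain133.eq_def
  have := @Cfsg.Lie.chevE8Chain133.congr_simp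
  have := @Cfsg.Lie.chevE8Chain136.eq_1
  have := @Cfsg.Lie.chevE8Chain136.eq_def
  have := @Cfsg.Lie.chevE8Chain136.congr_simp
  have := @Cfsg.Lie.chevE8Chain234.eq_1
  have := @Cfsg.Lie.chevE8Chain234.eq_def
  have := @Cfsg.Lie.chevE8Chain234.congr_simp
  have := @Cfsg.Lie.chevE8Chain25.eq_1
  have := @Cfsg.Lie.chevE8Chain25.eq_def
  have := @Cfsg.Lie.chevE8Chain25.congr_simp
  have := @Cfsg.Lie.chevE8Chain90.eq_1
  have := @Cfsg.Lie.chevE8Chain90.eq_def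
  have := @Cfsg.Lie.chevE8Chain90.congr_simp
  have := @Cfsg.Lie.chevE8Chain204.eq_1
  have := @Cfsg.Lie.chevE8Chain204.eq_def
  have := @Cfsg.Lie.chevE8Chain204.congr_simp
  have := @Cfsg.Lie.chevE8Chain102.eq_1
  have := @Cfsg.Lie.chevE8Chain102.eq_def
  have := @Cfsg.Lie.chevE8Chain102.congr_simp
  have := @Cfsg.Lie.chevE8Chain229.eq_1
  have := @Cfsg.Lie.chevE8Chain229.eq_def
  have := @Cfsg.Lie.chevE8Chain229.congr_simp
  have := @Cfsg.Lie.chevE8Chain173.eq_1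
  have := @Cfsg.Lie.chevE8Chain173.eq_def
  have := @Cfsg.Lie.chevE8Chain173.congr_simp
  have := @Cfsg.Lie.chevE8Chain193.eq_1
  have := @Cfsg.Lie.chevE8Chain193.eq_def
  have := @Cfsg.Lie.chevE8Chain193.congr_simp
  have := @Cfsg.Lie.chevE8Chain172.eq_1
  have := @Cfsg.Lie.chevE8Chain172.eq_def
  have := @Cfsg.Lie.chevE8Chain172.congr_simp
  have := @Cfsg.Lie.chevE8Chain179.eq_1
  have := @Cfsg.Lie.chevE8Chain179.eq_def
  have := @Cfsg.Lie.chevE8Chain179.congr_simp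
  have := @Cfsg.Lie.chevE8Chain79.eq_1
  have := @Cfsg.Lie.chevE8Chain79.eq_def
  trivial

end CA.EqAll
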