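/-
GENERATED (see `EqAll`).  FROZEN.
-/
import Cfsg.Agent.Eq.E05

namespace CA.EqAll

theorem realize6x0 : True := by
  have := @Cfsg.Lie.chevE8Chain79.congr_simp
  have := @Cfsg.Lie.chevE8Chain36.eq_1
  have := @Cfsg.Lie.chevE8Chain36.eq_def
  have := @Cfsg.Lie.chevE8Chain36.congr_simp
  have := @Cfsg.Lie.chevE8Chain91.eq_1
  have := @Cfsg.Lie.chevE8Chain91.eq_def
  have := @Cfsg.Lie.chevE8Chain91.congr_simp
  have := @Cfsg.Lie.chevE8Chain124.eq_1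
  have := @Cfsg.Lie.chevE8Chain124.eq_def
  have := @Cfsg.Lie.chevE8Chain124.congr_simp
  have := @Cfsg.Lie.chevE8Chain61.eq_1
  have := @Cfsg.Lie.chevE8Chain61.eq_def
  have := @Cfsg.Lie.chevE8Chain61.congr_simp
  have := @Cfsg.Lie.chevE8Chain115.eq_1
  have := @Cfsg.Lie.chevE8Chain115.eq_def
  have := @Cfsg.Lie.chevE8Chain115.congr_simp
  have := @Cfsg.Lie.chevE8Chain190.eq_1
  have := @Cfsg.Lie.chevE8Chain190.eq_def
  have := @Cfsg.Lie.chevE8Chain190.congr_simp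
  have := @Cfsg.Lie.chevE8Chain65.eq_1
  have := @Cfsg.Lie.chevE8Chain65.eq_def
  have := @Cfsg.Lie.chevE8Chain65.congr_simp
  have := @Cfsg.Lie.chevE8Chain67.eq_1
  have := @Cfsg.Lie.chevE8Chain67.eq_def
  have := @Cfsg.Lie.chevE8Chain67.congr_simp
  have := @Cfsg.Lie.chevE8Chain142.eq_1
  have := @Cfsg.Lie.chevE8Chain142.eq_def
  have := @Cfsg.Lie.chevE8Chain142.congr_simp
  have := @Cfsg.Lie.chevE8Chain175.eq_1
  have := @Cfsg.Lie.chevE8Chain175.eq_def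
  have := @Cfsg.Lie.chevE8Chain175.congr_simp
  have := @Cfsg.Lie.chevE8Chain.eq_1
  have := @Cfsg.Lie.chevE8Chain.eq_def
  have := @Cfsg.Lie.chevE8Chain.congr_simp
  have := @Cfsg.Lie.chevE8Chain56.eq_1
  have := @Cfsg.Lie.chevE8Chain56.eq_def
  have := @Cfsg.Lie.chevE8Chain56.congr_simp
  have := @Cfsg.Lie.chevE8Chain14.eq_1
  have := @Cfsg.Lie.chevE8Chain14.eq_def
  have := @Cfsg.Lie.chevE8Chain14.congr_simp
  have := @Cfsg.Lie.chevE8Chain54.eq_1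
  have := @Cfsg.Lie.chevE8Chain54.eq_def
  have := @Cfsg.Lie.chevE8Chain54.congr_simp
  have := @Cfsg.Lie.chevE8Chain161.eq_1
  have := @Cfsg.Lie.chevE8Chain161.eq_def
  have := @Cfsg.Lie.chevE8Chain161.congr_simp
  have := @Cfsg.Lie.chevE8Chain109.eq_1
  have := @Cfsg.Lie.chevE8Chain109.eq_def
  have := @Cfsg.Lie.chevE8Chain109.congr_simp
  have := @Cfsg.Lie.chevE8Chain57.eq_1
  have := @Cfsg.Lie.chevE8Chain57.eq_def
  have := @Cfsg.Lie.chevE8Chain57.congr_simp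
  have := @Cfsg.Lie.chevE8Chain1.eq_1
  have := @Cfsg.Lie.chevE8Chain1.eq_def
  have := @Cfsg.Lie.chevE8Chain1.congr_simp
  have := @Cfsg.Lie.chevE8Chain215.eq_1
  have := @Cfsg.Lie.chevE8Chain215.eq_def
  have := @Cfsg.Lie.chevE8Chain215.congr_simp
  have := @Cfsg.Lie.chevE8Chain205.eq_1
  have := @Cfsg.Lie.chevE8Chain205.eq_def
  have := @Cfsg.Lie.chevE8Chain205.congr_simp
  have := @Cfsg.Lie.chevE8Chain111.eq_1
  have := @Cfsg.Lie.chevE8Chain111.eq_def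
  have := @Cfsg.Lie.chevE8Chain111.congr_simp
  have := @Cfsg.Lie.chevE8Chain189.eq_1
  have := @Cfsg.Lie.chevE8Chain189.eq_def
  have := @Cfsg.Lie.chevE8Chain189.congr_simp
  have := @Cfsg.Lie.chevE8Chain137.eq_1
  have := @Cfsg.Lie.chevE8Chain137.eq_def
  have := @Cfsg.Lie.chevE8Chain137.congr_simp
  have := @Cfsg.Lie.chevE8Chain181.eq_1
  have := @Cfsg.Lie.chevE8Chain181.eq_def
  have := @Cfsg.Lie.chevE8Chain181.congr_simp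
  have := @Cfsg.Lie.chevE8Chain223.eq_1
  have := @Cfsg.Lie.chevE8Chain223.eq_def
  have := @Cfsg.Lie.chevE8Chain223.congr_simp
  have := @Cfsg.Lie.chevE8Chain2.eq_1
  have := @Cfsg.Lie.chevE8Chain2.eq_def
  have := @Cfsg.Lie.chevE8Chain2.congr_simp
  have := @Cfsg.Lie.chevE8Chain4.eq_1
  have := @Cfsg.Lie.chevE8Chain4.eq_def
  have := @Cfsg.Lie.chevE8Chain4.congr_simp
  have := @Cfsg.Lie.chevE8.eq_1
  have := @Cfsg.Lie.chevE8.eq_def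
  have := @Cfsg.Lie.chevE8.congr_simp
  have := @Cfsg.Lie.chevE8Chain69.eq_1
  have := @Cfsg.Lie.chevE8Chain69.eq_def
  have := @Cfsg.Lie.chevE8Chain69.congr_simp
  have := @Cfsg.Lie.IsoE7.eq_1.{0}
  have := @Cfsg.Lie.IsoE7.eq_def.{0}
  have := @Cfsg.Lie.IsoE7.congr_simp.{0}
  have := @Cfsg.Lie.IsoChevE6.eq_1.{0}
  have := @Cfsg.Lie.IsoChevE6.eq_def.{0}
  have := @Cfsg.Lie.IsoChevE6.congr_simp.{0}
  have := @Cfsg.Lie.IsoF4.eq_1.{0}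
  have := @Cfsg.Lie.IsoF4.eq_def.{0}
  have := @Cfsg.Lie.IsoF4.congr_simp.{0}
  have := @Cfsg.Lie.IsoChevG2.eq_1.{0}
  have := @Cfsg.Lie.IsoChevG2.eq_def.{0}
  have := @Cfsg.Lie.IsoChevG2.congr_simp.{0}
  have := @Cfsg.Lie.IsoE8.eq_1.{0}
  have := @Cfsg.Lie.IsoE8.eq_def.{0}
  have := @Cfsg.Lie.IsoE8.congr_simp.{0}
  have := @Cfsg.Lie.chevD4Chain4.eq_1
  have := @Cfsg.Lie.chevD4Chain4.eq_def
  have := @Cfsg.Lie.chevD4Chain4.congr_simp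
  have := @Cfsg.Lie.chevD4Chain10.eq_1
  have := @Cfsg.Lie.chevD4Chain10.eq_def
  have := @Cfsg.Lie.chevD4Chain10.congr_simp
  have := @Cfsg.Lie.chevD4Chain22.eq_1
  have := @Cfsg.Lie.chevD4Chain22.eq_def
  have := @Cfsg.Lie.chevD4Chain22.congr_simp
  have := @Cfsg.Lie.chevD4CartanSR.eq_1
  have := @Cfsg.Lie.chevD4CartanSR.eq_def
  have := @Cfsg.Lie.chevD4CartanSR.congr_simp
  have := @Cfsg.Lie.chevD4Chain3.eq_1
  have := @Cfsg.Lie.chevD4Chain3.eq_def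
  have := @Cfsg.Lie.chevD4Chain3.congr_simp
  have := @Cfsg.Lie.chevD4Chain14.eq_1
  have := @Cfsg.Lie.chevD4Chain14.eq_def
  trivial

theorem realize6x1 : True := by
  have := @Cfsg.Lie.chevD4Chain14.congr_simp
  have := @Cfsg.Lie.chevD4Chain2.eq_1
  have := @Cfsg.Lie.chevD4Chain2.eq_def
  have := @Cfsg.Lie.chevD4Chain2.congr_simp
  have := @Cfsg.Lie.chevD4Chain5.eq_1
  have := @Cfsg.Lie.chevD4Chain5.eq_def
  have := @Cfsg.Lie.chevD4Chain5.congr_simp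
  have := @Cfsg.Lie.chevD4Chain21.eq_1
  have := @Cfsg.Lie.chevD4Chain21.eq_def
  have := @Cfsg.Lie.chevD4Chain21.congr_simp
  have := @Cfsg.Lie.chevD4Chain20.eq_1
  have := @Cfsg.Lie.chevD4Chain20.eq_def
  have := @Cfsg.Lie.chevD4Chain20.congr_simp
  have := @Cfsg.Lie.chevD4Chain23.eq_1
  have := @Cfsg.Lie.chevD4Chain23.eq_def
  have := @Cfsg.Lie.chevD4Chain23.congr_simp
  have := @Cfsg.Lie.chevD4Chain9.eq_1
  have := @Cfsg.Lie.chevD4Chain9.eq_def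
  have := @Cfsg.Lie.chevD4Chain9.congr_simp
  have := @Cfsg.Lie.chevD4Chain.eq_1
  have := @Cfsg.Lie.chevD4Chain.eq_def
  have := @Cfsg.Lie.chevD4Chain.congr_simp
  have := @Cfsg.Lie.chevD4Chain13.eq_1
  have := @Cfsg.Lie.chevD4Chain13.eq_def
  have := @Cfsg.Lie.chevD4Chain13.congr_simp
  have := @Cfsg.Lie.chevD4Coroot.eq_1
  have := @Cfsg.Lie.chevD4Coroot.eq_def
  have := @Cfsg.Lie.chevD4Coroot.congr_simp
  have := @Cfsg.Lie.chevD4Chain0.eq_1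
  have := @Cfsg.Lie.chevD4Chain0.eq_def
  have := @Cfsg.Lie.chevD4Chain0.congr_simp
  have := @Cfsg.Lie.chevD4Chain17.eq_1
  have := @Cfsg.Lie.chevD4Chain17.eq_def
  have := @Cfsg.Lie.chevD4Chain17.congr_simp
  have := @Cfsg.Lie.chevD4Chain18.eq_1
  have := @Cfsg.Lie.chevD4Chain18.eq_def
  have := @Cfsg.Lie.chevD4Chain18.congr_simp
  have := @Cfsg.Lie.chevD4Chain12.eq_1
  have := @Cfsg.Lie.chevD4Chain12.eq_def
  have := @Cfsg.Lie.chevD4Chain12.congr_simp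
  have := @Cfsg.Lie.chevD4NegIdx.eq_1
  have := @Cfsg.Lie.chevD4NegIdx.eq_def
  have := @Cfsg.Lie.chevD4NegIdx.congr_simp
  have := @Cfsg.Lie.chevD4SimpleIdx.eq_1
  have := @Cfsg.Lie.chevD4SimpleIdx.eq_def
  have := @Cfsg.Lie.chevD4SimpleIdx.congr_simp
  have := @Cfsg.Lie.chevD4Chain8.eq_1
  have := @Cfsg.Lie.chevD4Chain8.eq_def
  have := @Cfsg.Lie.chevD4Chain8.congr_simp
  have := @Cfsg.Lie.chevD4Chain19.eq_1
  have := @Cfsg.Lie.chevD4Chain19.eq_def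
  have := @Cfsg.Lie.chevD4Chain19.congr_simp
  have := @Cfsg.Lie.chevD4Chain7.eq_1
  have := @Cfsg.Lie.chevD4Chain7.eq_def
  have := @Cfsg.Lie.chevD4Chain7.congr_simp
  have := @Cfsg.Lie.chevD4.eq_1
  have := @Cfsg.Lie.chevD4.eq_def
  have := @Cfsg.Lie.chevD4.congr_simp
  have := @Cfsg.Lie.chevD4Chain16.eq_1
  have := @Cfsg.Lie.chevD4Chain16.eq_def
  have := @Cfsg.Lie.chevD4Chain16.congr_simp
  have := @Cfsg.Lie.chevD4Chain1.eq_1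
  have := @Cfsg.Lie.chevD4Chain1.eq_def
  have := @Cfsg.Lie.chevD4Chain1.congr_simp
  have := @Cfsg.Lie.chevD4Chain6.eq_1
  have := @Cfsg.Lie.chevD4Chain6.eq_def
  have := @Cfsg.Lie.chevD4Chain6.congr_simp
  have := @Cfsg.Lie.chevD4Chain11.eq_1
  have := @Cfsg.Lie.chevD4Chain11.eq_def
  have := @Cfsg.Lie.chevD4Chain11.congr_simp
  have := @Cfsg.Lie.chevD4Chain15.eq_1
  have := @Cfsg.Lie.chevD4Chain15.eq_def
  have := @Cfsg.Lie.chevD4Chain15.congr_simp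
  have := @Cfsg.Lie.f4m1.eq_1
  have := @Cfsg.Lie.f4m1.eq_def
  have := @Cfsg.Lie.f4m1.congr_simp
  have := @Cfsg.Lie.f4b.eq_1
  have := @Cfsg.Lie.f4b.eq_def
  have := @Cfsg.Lie.f4b.congr_simp
  have := @Cfsg.Lie.e6m3.eq_1
  have := @Cfsg.Lie.e6m3.eq_def
  have := @Cfsg.Lie.e6m3.congr_simp
  have := @Cfsg.Lie.IsoRee.eq_1.{0}
  have := @Cfsg.Lie.IsoRee.eq_def.{0}
  have := @Cfsg.Lie.IsoRee.congr_simp.{0}
  have := @Cfsg.Lie.f4Words.eq_1.{0}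
  have := @Cfsg.Lie.f4Words.eq_def.{0}
  have := @Cfsg.Lie.f4Words.congr_simp.{0}
  have := @Cfsg.Lie.g2maab.eq_1
  have := @Cfsg.Lie.g2maab.eq_def
  have := @Cfsg.Lie.g2maab.congr_simp
  have := @Cfsg.Lie.reeWordU.eq_1.{0}
  have := @Cfsg.Lie.reeWordU.eq_def.{0}
  have := @Cfsg.Lie.reeWordU.congr_simp.{0}
  have := @Cfsg.Lie.f4p1.eq_1
  have := @Cfsg.Lie.f4p1.eq_def
  have := @Cfsg.Lie.f4p1.congr_simp
  have := @Cfsg.Lie.g2maaab.eq_1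
  have := @Cfsg.Lie.g2maaab.eq_def
  have := @Cfsg.Lie.g2maaab.congr_simp
  have := @Cfsg.Lie.e6m1.eq_1
  have := @Cfsg.Lie.e6m1.eq_def
  have := @Cfsg.Lie.e6m1.congr_simp
  have := @Cfsg.Lie.e6m4.eq_1
  have := @Cfsg.Lie.e6m4.eq_def
  have := @Cfsg.Lie.e6m4.congr_simp
  have := @Cfsg.Lie.f4aab.eq_1
  have := @Cfsg.Lie.f4aab.eq_def
  have := @Cfsg.Lie.f4aab.congr_simp
  have := @Cfsg.Lie.f4ab.eq_1
  have := @Cfsg.Lie.f4ab.eq_def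
  have := @Cfsg.Lie.f4ab.congr_simp
  have := @Cfsg.Lie.Iso2F4.eq_1.{0}
  have := @Cfsg.Lie.Iso2F4.eq_def.{0}
  have := @Cfsg.Lie.Iso2F4.congr_simp.{0}
  have := @Cfsg.Lie.f4mb.eq_1
  have := @Cfsg.Lie.f4mb.eq_def
  have := @Cfsg.Lie.f4mb.congr_simp
  have := @Cfsg.Lie.b2ClassWord.eq_1.{0}
  have := @Cfsg.Lie.b2ClassWord.eq_def.{0}
  trivial

theorem realize6x2 : True := by
  have := @Cfsg.Lie.b2ClassWord.congr_simp.{0}
  have := @Cfsg.Lie.twistedF4.eq_1.{0}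
  have := @Cfsg.Lie.twistedF4.eq_def.{0}
  have := @Cfsg.Lie.twistedF4.congr_simp.{0}
  have := @Cfsg.Lie.f4ma.eq_1
  have := @Cfsg.Lie.f4ma.eq_def
  have := @Cfsg.Lie.f4ma.congr_simp
  have := @Cfsg.Lie.g2aaab.eq_1
  have := @Cfsg.Lie.g2aaab.eq_def
  have := @Cfsg.Lie.g2aaab.congr_simp
  have := @Cfsg.Lie.Iso2E6.eq_1.{0}
  have := @Cfsg.Lie.Iso2E6.eq_def.{0}
  have := @Cfsg.Lie.Iso2E6.congr_simp.{0}
  have := @Cfsg.Lie.f4p4.eq_1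
  have := @Cfsg.Lie.f4p4.eq_def
  have := @Cfsg.Lie.f4p4.congr_simp
  have := @Cfsg.Lie.g2ma.eq_1
  have := @Cfsg.Lie.g2ma.eq_def
  have := @Cfsg.Lie.g2ma.congr_simp
  have := @Cfsg.Lie.Iso3D4.eq_1.{0}
  have := @Cfsg.Lie.Iso3D4.eq_def.{0}
  have := @Cfsg.Lie.Iso3D4.congr_simp.{0}
  have := @Cfsg.Lie.g2Words.eq_1.{0}
  have := @Cfsg.Lie.g2Words.eq_def.{0}
  have := @Cfsg.Lie.g2Words.congr_simp.{0}
  have := @Cfsg.Lie.g2mab.eq_1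
  have := @Cfsg.Lie.g2mab.eq_def
  have := @Cfsg.Lie.g2mab.congr_simp
  have := @Cfsg.Lie.d4p2.eq_1
  have := @Cfsg.Lie.d4p2.eq_def
  have := @Cfsg.Lie.d4p2.congr_simp
  have := @Cfsg.Lie.e6m5.eq_1
  have := @Cfsg.Lie.e6m5.eq_def
  have := @Cfsg.Lie.e6m5.congr_simp
  have := @Cfsg.Lie.d4m4.eq_1
  have := @Cfsg.Lie.d4m4.eq_def
  have := @Cfsg.Lie.d4m4.congr_simp
  have := @Cfsg.Lie.f4maab.eq_1
  have := @Cfsg.Lie.f4maab.eq_def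
  have := @Cfsg.Lie.f4maab.congr_simp
  have := @Cfsg.Lie.e6p3.eq_1
  have := @Cfsg.Lie.e6p3.eq_def
  have := @Cfsg.Lie.e6p3.congr_simp
  have := @Cfsg.Lie.e6p1.eq_1
  have := @Cfsg.Lie.e6p1.eq_def
  have := @Cfsg.Lie.e6p1.congr_simp
  have := @Cfsg.Lie.d4m2.eq_1
  have := @Cfsg.Lie.d4m2.eq_def
  have := @Cfsg.Lie.d4m2.congr_simp
  have := @Cfsg.Lie.f4PairWord.eq_1.{0}
  have := @Cfsg.Lie.f4PairWord.eq_def.{0}
  have := @Cfsg.Lie.f4PairWord.congr_simp.{0}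
  have := @Cfsg.Lie.g2a.eq_1
  have := @Cfsg.Lie.g2a.eq_def
  have := @Cfsg.Lie.g2a.congr_simp
  have := @Cfsg.Lie.d4m3.eq_1
  have := @Cfsg.Lie.d4m3.eq_def
  have := @Cfsg.Lie.d4m3.congr_simp
  have := @Cfsg.Lie.e6p2.eq_1
  have := @Cfsg.Lie.e6p2.eq_def
  have := @Cfsg.Lie.e6p2.congr_simp
  have := @Cfsg.Lie.e6p6.eq_1
  have := @Cfsg.Lie.e6p6.eq_def
  have := @Cfsg.Lie.e6p6.congr_simp
  have := @Cfsg.Lie.g2b.eq_1
  have := @Cfsg.Lie.g2b.eq_def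
  have := @Cfsg.Lie.g2b.congr_simp
  have := @Cfsg.Lie.TitsGroup.eq_1
  have := @Cfsg.Lie.TitsGroup.eq_def
  have := @Cfsg.Lie.TitsGroup.congr_simp
  have := @Cfsg.Lie.d4p1.eq_1
  have := @Cfsg.Lie.d4p1.eq_def
  have := @Cfsg.Lie.d4p1.congr_simp
  have := @Cfsg.Lie.d4p3.eq_1
  have := @Cfsg.Lie.d4p3.eq_def
  have := @Cfsg.Lie.d4p3.congr_simp
  have := @Cfsg.Lie.twistedD4.eq_1.{0}
  have := @Cfsg.Lie.twistedD4.eq_def.{0}
  have := @Cfsg.Lie.twistedD4.congr_simp.{0}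
  have := @Cfsg.Lie.f4a.eq_1
  have := @Cfsg.Lie.f4a.eq_def
  have := @Cfsg.Lie.f4a.congr_simp
  have := @Cfsg.Lie.g2mb.eq_1
  have := @Cfsg.Lie.g2mb.eq_def
  have := @Cfsg.Lie.g2mb.congr_simp
  have := @Cfsg.Lie.e6m6.eq_1
  have := @Cfsg.Lie.e6m6.eq_def
  have := @Cfsg.Lie.e6m6.congr_simp
  have := @Cfsg.Lie.e6Words.eq_1.{0}
  have := @Cfsg.Lie.e6Words.eq_def.{0}
  have := @Cfsg.Lie.e6Words.congr_simp.{0}
  have := @Cfsg.Lie.e6m2.eq_1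
  have := @Cfsg.Lie.e6m2.eq_def
  have := @Cfsg.Lie.e6m2.congr_simp
  have := @Cfsg.Lie.twistedE6.eq_1.{0}
  have := @Cfsg.Lie.twistedE6.eq_def.{0}
  have := @Cfsg.Lie.twistedE6.congr_simp.{0}
  have := @Cfsg.Lie.d4m1.eq_1
  have := @Cfsg.Lie.d4m1.eq_def
  have := @Cfsg.Lie.d4m1.congr_simp
  have := @Cfsg.Lie.IsoTits.eq_1.{0}
  have := @Cfsg.Lie.IsoTits.eq_def.{0}
  have := @Cfsg.Lie.IsoTits.congr_simp.{0}
  have := @Cfsg.Lie.g2aab.eq_1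
  have := @Cfsg.Lie.g2aab.eq_def
  have := @Cfsg.Lie.g2aab.congr_simp
  have := @Cfsg.Lie.twistedG2.eq_1.{0}
  have := @Cfsg.Lie.twistedG2.eq_def.{0}
  have := @Cfsg.Lie.twistedG2.congr_simp.{0}
  have := @Cfsg.Lie.f4mab.eq_1
  have := @Cfsg.Lie.f4mab.eq_def
  have := @Cfsg.Lie.f4mab.congr_simp
  have := @Cfsg.Lie.g2aaabb.eq_1
  have := @Cfsg.Lie.g2aaabb.eq_def
  have := @Cfsg.Lie.g2aaabb.congr_simp
  have := @Cfsg.Lie.e6p5.eq_1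
  have := @Cfsg.Lie.e6p5.eq_def
  have := @Cfsg.Lie.e6p5.congr_simp
  have := @Cfsg.Lie.d4Words.eq_1.{0}
  have := @Cfsg.Lie.d4Words.eq_def.{0}
  trivial

end CA.EqAll
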