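/-
GENERATED (see `EqAll`).  FROZEN.
-/
import Cfsg.Agent.Eq.E07

namespace CA.EqAll

theorem realize8x0 : True := by
  have := @Cfsg.Spor.Suz.a.congr_simp
  have := @Cfsg.Spor.He.e.eq_1
  have := @Cfsg.Spor.He.e.eq_def
  have := @Cfsg.Spor.He.e.congr_simp
  have := @Cfsg.Spor.He.g.eq_1
  have := @Cfsg.Spor.He.g.eq_def
  have := @Cfsg.Spor.He.g.congr_simp
  have := @Cfsg.Spor.He.edges.eq_1
  have := @Cfsg.Spor.He.edges.eq_def
  have := @Cfsg.Spor.He.edges.congr_simp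
  have := @Cfsg.Spor.He.extra.eq_1
  have := @Cfsg.Spor.He.extra.eq_def
  have := @Cfsg.Spor.He.extra.congr_simp
  have := @Cfsg.Spor.He.d.eq_1
  have := @Cfsg.Spor.He.d.eq_def
  have := @Cfsg.Spor.He.d.congr_simp
  have := @Cfsg.Spor.He.b.eq_1
  have := @Cfsg.Spor.He.b.eq_def
  have := @Cfsg.Spor.He.b.congr_simp
  have := @Cfsg.Spor.He.c.eq_1
  have := @Cfsg.Spor.He.c.eq_def
  have := @Cfsg.Spor.He.c.congr_simp
  have := @Cfsg.Spor.He.f.eq_1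
  have := @Cfsg.Spor.He.f.eq_def
  have := @Cfsg.Spor.He.f.congr_simp
  have := @Cfsg.Spor.He.a.eq_1
  have := @Cfsg.Spor.He.a.eq_def
  have := @Cfsg.Spor.He.a.congr_simp
  have := @Cfsg.Spor.He.eq_1
  have := @Cfsg.Spor.He.eq_def
  have := @Cfsg.Spor.He.congr_simp
  have := @Cfsg.Spor.IsoHe.eq_1.{0}
  have := @Cfsg.Spor.IsoHe.eq_def.{0}
  have := @Cfsg.Spor.IsoHe.congr_simp.{0}
  have := @Cfsg.Spor.ruRk.eq_1
  have := @Cfsg.Spor.ruRk.eq_def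
  have := @Cfsg.Spor.ruRk.congr_simp
  have := @Cfsg.Spor.RuIdx.eq_1
  have := @Cfsg.Spor.RuIdx.eq_def
  have := @Cfsg.Spor.RuIdx.congr_simp
  have := @Cfsg.Spor.Ru.eq_1
  have := @Cfsg.Spor.Ru.eq_def
  have := @Cfsg.Spor.Ru.congr_simp
  have := @Cfsg.Spor.ruOfArray.eq_1
  have := @Cfsg.Spor.ruOfArray.eq_def
  have := @Cfsg.Spor.ruOfArray.congr_simp
  have := @Cfsg.Spor.ruLattice.eq_1
  have := @Cfsg.Spor.ruLattice.eq_def
  have := @Cfsg.Spor.ruLattice.congr_simp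
  have := @Cfsg.Spor.RuVec.eq_1
  have := @Cfsg.Spor.RuVec.eq_def
  have := @Cfsg.Spor.RuVec.congr_simp
  have := @Cfsg.Spor.ruSign.eq_1
  have := @Cfsg.Spor.ruSign.eq_def
  have := @Cfsg.Spor.ruSign.congr_simp
  have := @Cfsg.Spor.ruTable.eq_1
  have := @Cfsg.Spor.ruTable.eq_def
  have := @Cfsg.Spor.ruTable.congr_simp
  have := @Cfsg.Spor.ruNorm.eq_1
  have := @Cfsg.Spor.ruNorm.eq_def
  have := @Cfsg.Spor.ruNorm.congr_simp
  have := @Cfsg.Spor.ruRj.eq_1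
  have := @Cfsg.Spor.ruRj.eq_def
  have := @Cfsg.Spor.ruRj.congr_simp
  have := @Cfsg.Spor.fourRu.eq_1
  have := @Cfsg.Spor.fourRu.eq_def
  have := @Cfsg.Spor.fourRu.congr_simp
  have := @Cfsg.Spor.ruI.eq_1
  have := @Cfsg.Spor.ruI.eq_def
  have := @Cfsg.Spor.ruI.congr_simp
  have := @Cfsg.Spor.ruShift.eq_1
  have := @Cfsg.Spor.ruShift.eq_def
  have := @Cfsg.Spor.ruShift.congr_simp
  have := @Cfsg.Spor.ruClosed.eq_1
  have := @Cfsg.Spor.ruClosed.eq_def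
  have := @Cfsg.Spor.ruClosed.congr_simp
  have := @Cfsg.Spor.IsoRu.eq_1.{0}
  have := @Cfsg.Spor.IsoRu.eq_def.{0}
  have := @Cfsg.Spor.IsoRu.congr_simp.{0}
  have := @Cfsg.Spor.gI.eq_1
  have := @Cfsg.Spor.gI.eq_def
  have := @Cfsg.Spor.gI.congr_simp
  have := @Cfsg.Spor.Fi22.e.eq_1
  have := @Cfsg.Spor.Fi22.e.eq_def
  have := @Cfsg.Spor.Fi22.e.congr_simp
  have := @Cfsg.Spor.Fi22.g.eq_1
  have := @Cfsg.Spor.Fi22.g.eq_def
  have := @Cfsg.Spor.Fi22.g.congr_simp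
  have := @Cfsg.Spor.Fi22.edges.eq_1
  have := @Cfsg.Spor.Fi22.edges.eq_def
  have := @Cfsg.Spor.Fi22.edges.congr_simp
  have := @Cfsg.Spor.Fi22.extra.eq_1
  have := @Cfsg.Spor.Fi22.extra.eq_def
  have := @Cfsg.Spor.Fi22.extra.congr_simp
  have := @Cfsg.Spor.Fi22.eq_1
  have := @Cfsg.Spor.Fi22.eq_def
  have := @Cfsg.Spor.Fi22.congr_simp
  have := @Cfsg.Spor.Fi22.d.eq_1
  have := @Cfsg.Spor.Fi22.d.eq_def
  have := @Cfsg.Spor.Fi22.d.congr_simp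
  have := @Cfsg.Spor.Fi22.h.eq_1
  have := @Cfsg.Spor.Fi22.h.eq_def
  have := @Cfsg.Spor.Fi22.h.congr_simp
  have := @Cfsg.Spor.IsoFi22.eq_1.{0}
  have := @Cfsg.Spor.IsoFi22.eq_def.{0}
  have := @Cfsg.Spor.IsoFi22.congr_simp.{0}
  have := @Cfsg.Spor.Fi22.c.eq_1
  have := @Cfsg.Spor.Fi22.c.eq_def
  have := @Cfsg.Spor.Fi22.c.congr_simp
  have := @Cfsg.Spor.Fi22.i.eq_1
  have := @Cfsg.Spor.Fi22.i.eq_def
  have := @Cfsg.Spor.Fi22.i.congr_simp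
  have := @Cfsg.Spor.Fi22.b.eq_1
  have := @Cfsg.Spor.Fi22.b.eq_def
  have := @Cfsg.Spor.Fi22.b.congr_simp
  have := @Cfsg.Spor.Fi22.f.eq_1
  have := @Cfsg.Spor.Fi22.f.eq_def
  have := @Cfsg.Spor.Fi22.f.congr_simp
  have := @Cfsg.Spor.Fi22.a.eq_1
  have := @Cfsg.Spor.Fi22.a.eq_def
  trivial

theorem realize8x1 : True := by
  have := @Cfsg.Spor.Fi22.a.congr_simp
  have := @Cfsg.Spor.Fi23.e.eq_1
  have := @Cfsg.Spor.Fi23.e.eq_def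
  have := @Cfsg.Spor.Fi23.e.congr_simp
  have := @Cfsg.Spor.Fi23.j.eq_1
  have := @Cfsg.Spor.Fi23.j.eq_def
  have := @Cfsg.Spor.Fi23.j.congr_simp
  have := @Cfsg.Spor.Fi23.g.eq_1
  have := @Cfsg.Spor.Fi23.g.eq_def
  have := @Cfsg.Spor.Fi23.g.congr_simp
  have := @Cfsg.Spor.IsoFi23.eq_1.{0}
  have := @Cfsg.Spor.IsoFi23.eq_def.{0}
  have := @Cfsg.Spor.IsoFi23.congr_simp.{0}
  have := @Cfsg.Spor.Fi23.edges.eq_1
  have := @Cfsg.Spor.Fi23.edges.eq_def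
  have := @Cfsg.Spor.Fi23.edges.congr_simp
  have := @Cfsg.Spor.Fi23.extra.eq_1
  have := @Cfsg.Spor.Fi23.extra.eq_def
  have := @Cfsg.Spor.Fi23.extra.congr_simp
  have := @Cfsg.Spor.Fi23.d.eq_1
  have := @Cfsg.Spor.Fi23.d.eq_def
  have := @Cfsg.Spor.Fi23.d.congr_simp
  have := @Cfsg.Spor.Fi23.h.eq_1
  have := @Cfsg.Spor.Fi23.h.eq_def
  have := @Cfsg.Spor.Fi23.h.congr_simp
  have := @Cfsg.Spor.Fi23.b.eq_1
  have := @Cfsg.Spor.Fi23.b.eq_def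
  have := @Cfsg.Spor.Fi23.b.congr_simp
  have := @Cfsg.Spor.Fi23.c.eq_1
  have := @Cfsg.Spor.Fi23.c.eq_def
  have := @Cfsg.Spor.Fi23.c.congr_simp
  have := @Cfsg.Spor.Fi23.f.eq_1
  have := @Cfsg.Spor.Fi23.f.eq_def
  have := @Cfsg.Spor.Fi23.f.congr_simp
  have := @Cfsg.Spor.Fi23.a.eq_1
  have := @Cfsg.Spor.Fi23.a.eq_def
  have := @Cfsg.Spor.Fi23.a.congr_simp
  have := @Cfsg.Spor.Fi23.eq_1
  have := @Cfsg.Spor.Fi23.eq_def
  have := @Cfsg.Spor.Fi23.congr_simp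
  have := @Cfsg.Spor.Fi23.i.eq_1
  have := @Cfsg.Spor.Fi23.i.eq_def
  have := @Cfsg.Spor.Fi23.i.congr_simp
  have := @Cfsg.Spor.Fi24.extra.eq_1
  have := @Cfsg.Spor.Fi24.extra.eq_def
  have := @Cfsg.Spor.Fi24.extra.congr_simp
  have := @Cfsg.Spor.Fi24.l.eq_1
  have := @Cfsg.Spor.Fi24.l.eq_def
  have := @Cfsg.Spor.Fi24.l.congr_simp
  have := @Cfsg.Spor.Fi24.edges.eq_1
  have := @Cfsg.Spor.Fi24.edges.eq_def
  have := @Cfsg.Spor.Fi24.edges.congr_simp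
  have := @Cfsg.Spor.Fi24.g.eq_1
  have := @Cfsg.Spor.Fi24.g.eq_def
  have := @Cfsg.Spor.Fi24.g.congr_simp
  have := @Cfsg.Spor.Fi24.j.eq_1
  have := @Cfsg.Spor.Fi24.j.eq_def
  have := @Cfsg.Spor.Fi24.j.congr_simp
  have := @Cfsg.Spor.Fi24.e.eq_1
  have := @Cfsg.Spor.Fi24.e.eq_def
  have := @Cfsg.Spor.Fi24.e.congr_simp
  have := @Cfsg.Spor.Fi24.eq_1
  have := @Cfsg.Spor.Fi24.eq_def
  have := @Cfsg.Spor.Fi24.congr_simp
  have := @Cfsg.Spor.IsoFi24'.eq_1.{0}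
  have := @Cfsg.Spor.IsoFi24'.eq_def.{0}
  have := @Cfsg.Spor.IsoFi24'.congr_simp.{0}
  have := @Cfsg.Spor.Fi24.i.eq_1
  have := @Cfsg.Spor.Fi24.i.eq_def
  have := @Cfsg.Spor.Fi24.i.congr_simp
  have := @Cfsg.Spor.Fi24.a.eq_1
  have := @Cfsg.Spor.Fi24.a.eq_def
  have := @Cfsg.Spor.Fi24.a.congr_simp
  have := @Cfsg.Spor.Fi24.k.eq_1
  have := @Cfsg.Spor.Fi24.k.eq_def
  have := @Cfsg.Spor.Fi24.k.congr_simp
  have := @Cfsg.Spor.Fi24'.eq_1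
  have := @Cfsg.Spor.Fi24'.eq_def
  have := @Cfsg.Spor.Fi24'.congr_simp
  have := @Cfsg.Spor.Fi24.f.eq_1
  have := @Cfsg.Spor.Fi24.f.eq_def
  have := @Cfsg.Spor.Fi24.f.congr_simp
  have := @Cfsg.Spor.Fi24.c.eq_1
  have := @Cfsg.Spor.Fi24.c.eq_def
  have := @Cfsg.Spor.Fi24.c.congr_simp
  have := @Cfsg.Spor.Fi24.b.eq_1
  have := @Cfsg.Spor.Fi24.b.eq_def
  have := @Cfsg.Spor.Fi24.b.congr_simp
  have := @Cfsg.Spor.Fi24.d.eq_1
  have := @Cfsg.Spor.Fi24.d.eq_def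
  have := @Cfsg.Spor.Fi24.d.congr_simp
  have := @Cfsg.Spor.Fi24.h.eq_1
  have := @Cfsg.Spor.Fi24.h.eq_def
  have := @Cfsg.Spor.Fi24.h.congr_simp
  have := @Cfsg.Spor.ON.e.eq_1
  have := @Cfsg.Spor.ON.e.eq_def
  have := @Cfsg.Spor.ON.e.congr_simp
  have := @Cfsg.Spor.ON.g.eq_1
  have := @Cfsg.Spor.ON.g.eq_def
  have := @Cfsg.Spor.ON.g.congr_simp
  have := @Cfsg.Spor.ON.edges.eq_1
  have := @Cfsg.Spor.ON.edges.eq_def
  have := @Cfsg.Spor.ON.edges.congr_simp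
  have := @Cfsg.Spor.ON.extra.eq_1
  have := @Cfsg.Spor.ON.extra.eq_def
  have := @Cfsg.Spor.ON.extra.congr_simp
  have := @Cfsg.Spor.IsoON.eq_1.{0}
  have := @Cfsg.Spor.IsoON.eq_def.{0}
  have := @Cfsg.Spor.IsoON.congr_simp.{0}
  have := @Cfsg.Spor.ON.d.eq_1
  have := @Cfsg.Spor.ON.d.eq_def
  have := @Cfsg.Spor.ON.d.congr_simp
  have := @Cfsg.Spor.ON.b.eq_1
  have := @Cfsg.Spor.ON.b.eq_def
  have := @Cfsg.Spor.ON.b.congr_simp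
  have := @Cfsg.Spor.ON.c.eq_1
  have := @Cfsg.Spor.ON.c.eq_def
  have := @Cfsg.Spor.ON.c.congr_simp
  have := @Cfsg.Spor.ON.f.eq_1
  have := @Cfsg.Spor.ON.f.eq_def
  trivial

theorem realize8x2 : True := by
  have := @Cfsg.Spor.ON.f.congr_simp
  have := @Cfsg.Spor.ON.a.eq_1
  have := @Cfsg.Spor.ON.a.eq_def
  have := @Cfsg.Spor.ON.a.congr_simp
  have := @Cfsg.Spor.ON.eq_1
  have := @Cfsg.Spor.ON.eq_def
  have := @Cfsg.Spor.ON.congr_simp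
  have := @Cfsg.Spor.IsoB.eq_1.{0}
  have := @Cfsg.Spor.IsoB.eq_def.{0}
  have := @Cfsg.Spor.IsoB.congr_simp.{0}
  have := @Cfsg.Spor.BabyMonster.edges.eq_1
  have := @Cfsg.Spor.BabyMonster.edges.eq_def
  have := @Cfsg.Spor.BabyMonster.edges.congr_simp
  have := @Cfsg.Spor.BabyMonster.extra.eq_1
  have := @Cfsg.Spor.BabyMonster.extra.eq_def
  have := @Cfsg.Spor.BabyMonster.extra.congr_simp
  have := @Cfsg.Spor.BabyMonster.t11.eq_1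
  have := @Cfsg.Spor.BabyMonster.t11.eq_def
  have := @Cfsg.Spor.BabyMonster.t11.congr_simp
  have := @Cfsg.Spor.BabyMonster.t3.eq_1
  have := @Cfsg.Spor.BabyMonster.t3.eq_def
  have := @Cfsg.Spor.BabyMonster.t3.congr_simp
  have := @Cfsg.Spor.BabyMonster.t2.eq_1
  have := @Cfsg.Spor.BabyMonster.t2.eq_def
  have := @Cfsg.Spor.BabyMonster.t2.congr_simp
  have := @Cfsg.Spor.BabyMonster.t6.eq_1
  have := @Cfsg.Spor.BabyMonster.t6.eq_def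
  have := @Cfsg.Spor.BabyMonster.t6.congr_simp
  have := @Cfsg.Spor.BabyMonster.t10.eq_1
  have := @Cfsg.Spor.BabyMonster.t10.eq_def
  have := @Cfsg.Spor.BabyMonster.t10.congr_simp
  have := @Cfsg.Spor.BabyMonster.t9.eq_1
  have := @Cfsg.Spor.BabyMonster.t9.eq_def
  have := @Cfsg.Spor.BabyMonster.t9.congr_simp
  have := @Cfsg.Spor.BabyMonster.t4.eq_1
  have := @Cfsg.Spor.BabyMonster.t4.eq_def
  have := @Cfsg.Spor.BabyMonster.t4.congr_simp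
  have := @Cfsg.Spor.BabyMonster.t7.eq_1
  have := @Cfsg.Spor.BabyMonster.t7.eq_def
  have := @Cfsg.Spor.BabyMonster.t7.congr_simp
  have := @Cfsg.Spor.BabyMonster.eq_1
  have := @Cfsg.Spor.BabyMonster.eq_def
  have := @Cfsg.Spor.BabyMonster.congr_simp
  have := @Cfsg.Spor.BabyMonster.t8.eq_1
  have := @Cfsg.Spor.BabyMonster.t8.eq_def
  have := @Cfsg.Spor.BabyMonster.t8.congr_simp
  have := @Cfsg.Spor.BabyMonster.t1.eq_1
  have := @Cfsg.Spor.BabyMonster.t1.eq_def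
  have := @Cfsg.Spor.BabyMonster.t1.congr_simp
  have := @Cfsg.Spor.BabyMonster.t5.eq_1
  have := @Cfsg.Spor.BabyMonster.t5.eq_def
  have := @Cfsg.Spor.BabyMonster.t5.congr_simp
  have := @Cfsg.Spor.Monster.eq_1
  have := @Cfsg.Spor.Monster.eq_def
  have := @Cfsg.Spor.Monster.congr_simp
  have := @Cfsg.Spor.Bimonster.e1.eq_1
  have := @Cfsg.Spor.Bimonster.e1.eq_def
  have := @Cfsg.Spor.Bimonster.e1.congr_simp
  have := @Cfsg.Spor.Bimonster.b2.eq_1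
  have := @Cfsg.Spor.Bimonster.b2.eq_def
  have := @Cfsg.Spor.Bimonster.b2.congr_simp
  have := @Cfsg.Spor.Bimonster.b3.eq_1
  have := @Cfsg.Spor.Bimonster.b3.eq_def
  have := @Cfsg.Spor.Bimonster.b3.congr_simp
  have := @Cfsg.Spor.IsoM.eq_1.{0}
  have := @Cfsg.Spor.IsoM.eq_def.{0}
  have := @Cfsg.Spor.IsoM.congr_simp.{0}
  have := @Cfsg.Spor.Bimonster.b1.eq_1
  have := @Cfsg.Spor.Bimonster.b1.eq_def
  have := @Cfsg.Spor.Bimonster.b1.congr_simp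
  have := @Cfsg.Spor.Bimonster.e3.eq_1
  have := @Cfsg.Spor.Bimonster.e3.eq_def
  have := @Cfsg.Spor.Bimonster.e3.congr_simp
  have := @Cfsg.Spor.Bimonster.f3.eq_1
  have := @Cfsg.Spor.Bimonster.f3.eq_def
  have := @Cfsg.Spor.Bimonster.f3.congr_simp
  have := @Cfsg.Spor.Bimonster.eq_1
  have := @Cfsg.Spor.Bimonster.eq_def
  have := @Cfsg.Spor.Bimonster.congr_simp
  have := @Cfsg.Spor.Bimonster.f1.eq_1
  have := @Cfsg.Spor.Bimonster.f1.eq_def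
  have := @Cfsg.Spor.Bimonster.f1.congr_simp
  have := @Cfsg.Spor.Bimonster.e2.eq_1
  have := @Cfsg.Spor.Bimonster.e2.eq_def
  have := @Cfsg.Spor.Bimonster.e2.congr_simp
  have := @Cfsg.Spor.Bimonster.c1.eq_1
  have := @Cfsg.Spor.Bimonster.c1.eq_def
  have := @Cfsg.Spor.Bimonster.c1.congr_simp
  have := @Cfsg.Spor.Bimonster.a.eq_1
  have := @Cfsg.Spor.Bimonster.a.eq_def
  have := @Cfsg.Spor.Bimonster.a.congr_simp
  have := @Cfsg.Spor.Bimonster.edges.eq_1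
  have := @Cfsg.Spor.Bimonster.edges.eq_def
  have := @Cfsg.Spor.Bimonster.edges.congr_simp
  have := @Cfsg.Spor.Bimonster.extra.eq_1
  have := @Cfsg.Spor.Bimonster.extra.eq_def
  have := @Cfsg.Spor.Bimonster.extra.congr_simp
  have := @Cfsg.Spor.Bimonster.d3.eq_1
  have := @Cfsg.Spor.Bimonster.d3.eq_def
  have := @Cfsg.Spor.Bimonster.d3.congr_simp
  have := @Cfsg.Spor.Bimonster.f2.eq_1
  have := @Cfsg.Spor.Bimonster.f2.eq_def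
  have := @Cfsg.Spor.Bimonster.f2.congr_simp
  have := @Cfsg.Spor.Bimonster.c3.eq_1
  have := @Cfsg.Spor.Bimonster.c3.eq_def
  have := @Cfsg.Spor.Bimonster.c3.congr_simp
  have := @Cfsg.Spor.Bimonster.d1.eq_1
  have := @Cfsg.Spor.Bimonster.d1.eq_def
  have := @Cfsg.Spor.Bimonster.d1.congr_simp
  have := @Cfsg.Spor.Bimonster.d2.eq_1
  have := @Cfsg.Spor.Bimonster.d2.eq_def
  have := @Cfsg.Spor.Bimonster.d2.congr_simp
  have := @Cfsg.Spor.Bimonster.c2.eq_1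
  have := @Cfsg.Spor.Bimonster.c2.eq_def
  have := @Cfsg.Spor.Bimonster.c2.congr_simp
  have := @Cfsg.Spor.IsoHN.eq_1.{0}
  have := @Cfsg.Spor.IsoHN.eq_def.{0}
  have := @Cfsg.Spor.IsoHN.congr_simp.{0}
  have := @Cfsg.Spor.HN.y.eq_1
  have := @Cfsg.Spor.HN.y.eq_def
  trivial

end CA.EqAll
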