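/-
GENERATED (see `EqAll`).  FROZEN.
-/
import Cfsg.Agent.Eq.E08

namespace CA.EqAll

theorem realize9x0 : True := by
  have := @Cfsg.Spor.HN.y.congr_simp
  have := @Cfsg.Spor.HN.edges.eq_1
  have := @Cfsg.Spor.HN.edges.eq_def
  have := @Cfsg.Spor.HN.edges.congr_simp
  have := @Cfsg.Spor.HN.extra.eq_1
  have := @Cfsg.Spor.HN.extra.eq_def
  have := @Cfsg.Spor.HN.extra.congr_simp
  have := @Cfsg.Spor.HN.z.eq_1
  have := @Cfsg.Spor.HN.z.eq_def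
  have := @Cfsg.Spor.HN.z.congr_simp
  have := @Cfsg.Spor.HN.x.eq_1
  have := @Cfsg.Spor.HN.x.eq_def
  have := @Cfsg.Spor.HN.x.congr_simp
  have := @Cfsg.Spor.HN.eq_1
  have := @Cfsg.Spor.HN.eq_def
  have := @Cfsg.Spor.HN.congr_simp
  have := @Cfsg.Spor.HN.t.eq_1
  have := @Cfsg.Spor.HN.t.eq_def
  have := @Cfsg.Spor.HN.t.congr_simp
  have := @Cfsg.Spor.Ly.x29.eq_1
  have := @Cfsg.Spor.Ly.x29.eq_def
  have := @Cfsg.Spor.Ly.x29.congr_simp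
  have := @Cfsg.Spor.Ly.c4.eq_1
  have := @Cfsg.Spor.Ly.c4.eq_def
  have := @Cfsg.Spor.Ly.c4.congr_simp
  have := @Cfsg.Spor.Ly.x165.eq_1
  have := @Cfsg.Spor.Ly.x165.eq_def
  have := @Cfsg.Spor.Ly.x165.congr_simp
  have := @Cfsg.Spor.Ly.x129.eq_1
  have := @Cfsg.Spor.Ly.x129.eq_def
  have := @Cfsg.Spor.Ly.x129.congr_simp
  have := @Cfsg.Spor.Ly.z.eq_1
  have := @Cfsg.Spor.Ly.z.eq_def
  have := @Cfsg.Spor.Ly.z.congr_simp
  have := @Cfsg.Spor.Ly.c.eq_1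
  have := @Cfsg.Spor.Ly.c.eq_def
  have := @Cfsg.Spor.Ly.c.congr_simp
  have := @Cfsg.Spor.Ly.x367.eq_1
  have := @Cfsg.Spor.Ly.x367.eq_def
  have := @Cfsg.Spor.Ly.x367.congr_simp
  have := @Cfsg.Spor.IsoLy.eq_1.{0}
  have := @Cfsg.Spor.IsoLy.eq_def.{0}
  have := @Cfsg.Spor.IsoLy.congr_simp.{0}
  have := @Cfsg.Spor.Ly.c5.eq_1
  have := @Cfsg.Spor.Ly.c5.eq_def
  have := @Cfsg.Spor.Ly.c5.congr_simp
  have := @Cfsg.Spor.Ly.x25.eq_1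
  have := @Cfsg.Spor.Ly.x25.eq_def
  have := @Cfsg.Spor.Ly.x25.congr_simp
  have := @Cfsg.Spor.Ly.extra.eq_1
  have := @Cfsg.Spor.Ly.extra.eq_def
  have := @Cfsg.Spor.Ly.extra.congr_simp
  have := @Cfsg.Spor.Ly.edges.eq_1
  have := @Cfsg.Spor.Ly.edges.eq_def
  have := @Cfsg.Spor.Ly.edges.congr_simp
  have := @Cfsg.Spor.Ly.x366.eq_1
  have := @Cfsg.Spor.Ly.x366.eq_def
  have := @Cfsg.Spor.Ly.x366.congr_simp
  have := @Cfsg.Spor.Ly.u.eq_1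
  have := @Cfsg.Spor.Ly.u.eq_def
  have := @Cfsg.Spor.Ly.u.congr_simp
  have := @Cfsg.Spor.Ly.x23.eq_1
  have := @Cfsg.Spor.Ly.x23.eq_def
  have := @Cfsg.Spor.Ly.x23.congr_simp
  have := @Cfsg.Spor.Ly.eq_1
  have := @Cfsg.Spor.Ly.eq_def
  have := @Cfsg.Spor.Ly.congr_simp
  have := @Cfsg.Spor.Ly.x370.eq_1
  have := @Cfsg.Spor.Ly.x370.eq_def
  have := @Cfsg.Spor.Ly.x370.congr_simp
  have := @Cfsg.Spor.Ly.x47.eq_1
  have := @Cfsg.Spor.Ly.x47.eq_def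
  have := @Cfsg.Spor.Ly.x47.congr_simp
  have := @Cfsg.Spor.Ly.c3.eq_1
  have := @Cfsg.Spor.Ly.c3.eq_def
  have := @Cfsg.Spor.Ly.c3.congr_simp
  have := @Cfsg.Spor.Ly.x167.eq_1
  have := @Cfsg.Spor.Ly.x167.eq_def
  have := @Cfsg.Spor.Ly.x167.congr_simp
  have := @Cfsg.Spor.Ly.b.eq_1
  have := @Cfsg.Spor.Ly.b.eq_def
  have := @Cfsg.Spor.Ly.b.congr_simp
  have := @Cfsg.Spor.Ly.a4.eq_1
  have := @Cfsg.Spor.Ly.a4.eq_def
  have := @Cfsg.Spor.Ly.a4.congr_simp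
  have := @Cfsg.Spor.Ly.d.eq_1
  have := @Cfsg.Spor.Ly.d.eq_def
  have := @Cfsg.Spor.Ly.d.congr_simp
  have := @Cfsg.Spor.Ly.x365.eq_1
  have := @Cfsg.Spor.Ly.x365.eq_def
  have := @Cfsg.Spor.Ly.x365.congr_simp
  have := @Cfsg.Spor.Ly.c2.eq_1
  have := @Cfsg.Spor.Ly.c2.eq_def
  have := @Cfsg.Spor.Ly.c2.congr_simp
  have := @Cfsg.Spor.Ly.x369.eq_1
  have := @Cfsg.Spor.Ly.x369.eq_def
  have := @Cfsg.Spor.Ly.x369.congr_simp
  have := @Cfsg.Spor.Ly.a1.eq_1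
  have := @Cfsg.Spor.Ly.a1.eq_def
  have := @Cfsg.Spor.Ly.a1.congr_simp
  have := @Cfsg.Spor.Ly.x166.eq_1
  have := @Cfsg.Spor.Ly.x166.eq_def
  have := @Cfsg.Spor.Ly.x166.congr_simp
  have := @Cfsg.Spor.Ly.x163.eq_1
  have := @Cfsg.Spor.Ly.x163.eq_def
  have := @Cfsg.Spor.Ly.x163.congr_simp
  have := @Cfsg.Spor.Ly.a3.eq_1
  have := @Cfsg.Spor.Ly.a3.eq_def
  have := @Cfsg.Spor.Ly.a3.congr_simp
  have := @Cfsg.Spor.Ly.x24.eq_1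
  have := @Cfsg.Spor.Ly.x24.eq_def
  have := @Cfsg.Spor.Ly.x24.congr_simp
  have := @Cfsg.Spor.Ly.x371.eq_1
  have := @Cfsg.Spor.Ly.x371.eq_def
  have := @Cfsg.Spor.Ly.x371.congr_simp
  have := @Cfsg.Spor.Ly.c1.eq_1
  have := @Cfsg.Spor.Ly.c1.eq_def
  have := @Cfsg.Spor.Ly.c1.congr_simp
  have := @Cfsg.Spor.Ly.x162.eq_1
  have := @Cfsg.Spor.Ly.x162.eq_def
  trivial

theorem realize9x1 : True := by
  have := @Cfsg.Spor.Ly.x162.congr_simp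
  have := @Cfsg.Spor.Ly.a2.eq_1
  have := @Cfsg.Spor.Ly.a2.eq_def
  have := @Cfsg.Spor.Ly.a2.congr_simp
  have := @Cfsg.Spor.Ly.a.eq_1
  have := @Cfsg.Spor.Ly.a.eq_def
  have := @Cfsg.Spor.Ly.a.congr_simp
  have := @Cfsg.Spor.Ly.x168.eq_1
  have := @Cfsg.Spor.Ly.x168.eq_def
  have := @Cfsg.Spor.Ly.x168.congr_simp
  have := @Cfsg.Spor.Ly.x96.eq_1
  have := @Cfsg.Spor.Ly.x96.eq_def
  have := @Cfsg.Spor.Ly.x96.congr_simp
  have := @Cfsg.Spor.Ly.x364.eq_1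
  have := @Cfsg.Spor.Ly.x364.eq_def
  have := @Cfsg.Spor.Ly.x364.congr_simp
  have := @Cfsg.Spor.Ly.e.eq_1
  have := @Cfsg.Spor.Ly.e.eq_def
  have := @Cfsg.Spor.Ly.e.congr_simp
  have := @Cfsg.Spor.Ly.x368.eq_1
  have := @Cfsg.Spor.Ly.x368.eq_def
  have := @Cfsg.Spor.Ly.x368.congr_simp
  have := @Cfsg.Spor.Ly.x169.eq_1
  have := @Cfsg.Spor.Ly.x169.eq_def
  have := @Cfsg.Spor.Ly.x169.congr_simp
  have := @Cfsg.Spor.Ly.x164.eq_1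
  have := @Cfsg.Spor.Ly.x164.eq_def
  have := @Cfsg.Spor.Ly.x164.congr_simp
  have := @Cfsg.Spor.Th.u.eq_1
  have := @Cfsg.Spor.Th.u.eq_def
  have := @Cfsg.Spor.Th.u.congr_simp
  have := @Cfsg.Spor.Th.t.eq_1
  have := @Cfsg.Spor.Th.t.eq_def
  have := @Cfsg.Spor.Th.t.congr_simp
  have := @Cfsg.Spor.Th.a.eq_1
  have := @Cfsg.Spor.Th.a.eq_def
  have := @Cfsg.Spor.Th.a.congr_simp
  have := @Cfsg.Spor.Th.d.eq_1
  have := @Cfsg.Spor.Th.d.eq_def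
  have := @Cfsg.Spor.Th.d.congr_simp
  have := @Cfsg.Spor.Th.eq_1
  have := @Cfsg.Spor.Th.eq_def
  have := @Cfsg.Spor.Th.congr_simp
  have := @Cfsg.Spor.IsoTh.eq_1.{0}
  have := @Cfsg.Spor.IsoTh.eq_def.{0}
  have := @Cfsg.Spor.IsoTh.congr_simp.{0}
  have := @Cfsg.Spor.Th.s.eq_1
  have := @Cfsg.Spor.Th.s.eq_def
  have := @Cfsg.Spor.Th.s.congr_simp
  have := @Cfsg.Spor.Th.e.eq_1
  have := @Cfsg.Spor.Th.e.eq_def
  have := @Cfsg.Spor.Th.e.congr_simp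
  have := @Cfsg.Spor.Th.c.eq_1
  have := @Cfsg.Spor.Th.c.eq_def
  have := @Cfsg.Spor.Th.c.congr_simp
  have := @Cfsg.Spor.Th.edges.eq_1
  have := @Cfsg.Spor.Th.edges.eq_def
  have := @Cfsg.Spor.Th.edges.congr_simp
  have := @Cfsg.Spor.Th.extra.eq_1
  have := @Cfsg.Spor.Th.extra.eq_def
  have := @Cfsg.Spor.Th.extra.congr_simp
  have := @Cfsg.Spor.Th.b.eq_1
  have := @Cfsg.Spor.Th.b.eq_def
  have := @Cfsg.Spor.Th.b.congr_simp
  have := @Cfsg.Spor.J4.t.eq_1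
  have := @Cfsg.Spor.J4.t.eq_def
  have := @Cfsg.Spor.J4.t.congr_simp
  have := @Cfsg.Spor.J4.x.eq_1
  have := @Cfsg.Spor.J4.x.eq_def
  have := @Cfsg.Spor.J4.x.congr_simp
  have := @Cfsg.Spor.IsoJ4.eq_1.{0}
  have := @Cfsg.Spor.IsoJ4.eq_def.{0}
  have := @Cfsg.Spor.IsoJ4.congr_simp.{0}
  have := @Cfsg.Spor.J4.extra.eq_1
  have := @Cfsg.Spor.J4.extra.eq_def
  have := @Cfsg.Spor.J4.extra.congr_simp
  have := @Cfsg.Spor.J4.edges.eq_1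
  have := @Cfsg.Spor.J4.edges.eq_def
  have := @Cfsg.Spor.J4.edges.congr_simp
  have := @Cfsg.Spor.J4.y.eq_1
  have := @Cfsg.Spor.J4.y.eq_def
  have := @Cfsg.Spor.J4.y.congr_simp
  have := @Cfsg.Spor.J4.eq_1
  have := @Cfsg.Spor.J4.eq_def
  have := @Cfsg.Spor.J4.congr_simp
  have := @Cfsg.IsExceptionalLieType.eq_1.{0}
  have := @Cfsg.IsExceptionalLieType.eq_def.{0}
  have := @Cfsg.IsExceptionalLieType.congr_simp.{0}
  have := @Cfsg.IsKGroup.eq_1.{0}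
  have := @Cfsg.IsKGroup.eq_def.{0}
  have := @Cfsg.IsKGroup.congr_simp.{0}
  have := @Cfsg.IsCompositionKGroup.eq_1.{0}
  have := @Cfsg.IsCompositionKGroup.eq_def.{0}
  have := @Cfsg.IsCompositionKGroup.congr_simp.{0}
  have := @Cfsg.IsKProper.eq_1.{0}
  have := @Cfsg.IsKProper.eq_def.{0}
  have := @Cfsg.IsKProper.congr_simp.{0}
  have := @Cfsg.IsCompositionKProper.eq_1.{0}
  have := @Cfsg.IsCompositionKProper.eq_def.{0}
  have := @Cfsg.IsCompositionKProper.congr_simp.{0}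
  have := @Cfsg.IsSporadicGroup.eq_1.{0}
  have := @Cfsg.IsSporadicGroup.eq_def.{0}
  have := @Cfsg.IsSporadicGroup.congr_simp.{0}
  have := @Cfsg.IsKnownSimple'.eq_1.{0}
  have := @Cfsg.IsKnownSimple'.eq_def.{0}
  have := @Cfsg.IsKnownSimple'.congr_simp.{0}
  have := @Cfsg.IsMinCounterexample.eq_1.{0}
  have := @Cfsg.IsMinCounterexample.eq_def.{0}
  have := @Cfsg.IsMinCounterexample.congr_simp.{0}
  have := @Cfsg.IsPOmegaPlusChar.eq_1.{0}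
  have := @Cfsg.IsPOmegaPlusChar.eq_def.{0}
  have := @Cfsg.IsPOmegaPlusChar.congr_simp.{0}
  have := @Cfsg.IsPOmegaOddChar.eq_1.{0}
  have := @Cfsg.IsPOmegaOddChar.eq_def.{0}
  have := @Cfsg.IsPOmegaOddChar.congr_simp.{0}
  have := @Cfsg.IsExceptionalChevChar.eq_1.{0}
  have := @Cfsg.IsExceptionalChevChar.eq_def.{0}
  have := @Cfsg.IsExceptionalChevChar.congr_simp.{0}
  have := @Cfsg.IsPOmegaMinusChar.eq_1.{0}
  have := @Cfsg.IsPOmegaMinusChar.eq_def.{0}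
  trivial

theorem realize9x2 : True := by
  have := @Cfsg.IsPOmegaMinusChar.congr_simp.{0}
  have := @Cfsg.IsPSLChar.eq_1.{0}
  have := @Cfsg.IsPSLChar.eq_def.{0}
  have := @Cfsg.IsPSLChar.congr_simp.{0}
  have := @Cfsg.IsPSpChar.eq_1.{0}
  have := @Cfsg.IsPSpChar.eq_def.{0}
  have := @Cfsg.IsPSpChar.congr_simp.{0}
  have := @Cfsg.IsPSUChar.eq_1.{0}
  have := @Cfsg.IsPSUChar.eq_def.{0}
  have := @Cfsg.IsPSUChar.congr_simp.{0}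
  have := @Cfsg.IsLieTypeChar.eq_1.{0}
  have := @Cfsg.IsLieTypeChar.eq_def.{0}
  have := @Cfsg.IsLieTypeChar.congr_simp.{0}
  have := @Cfsg.IsTwistedE6D4Char.eq_1.{0}
  have := @Cfsg.IsTwistedE6D4Char.eq_def.{0}
  have := @Cfsg.IsTwistedE6D4Char.congr_simp.{0}
  have := @Cfsg.IsStronglyEmbedded.eq_1.{0}
  have := @Cfsg.IsStronglyEmbedded.eq_def.{0}
  have := @Cfsg.IsStronglyEmbedded.congr_simp.{0}
  have := @Cfsg.IsIsolatedInvolution.eq_1.{0}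
  have := @Cfsg.IsIsolatedInvolution.eq_def.{0}
  have := @Cfsg.IsIsolatedInvolution.congr_simp.{0}
  have := @Cfsg.IsStronglyClosed.eq_1.{0}
  have := @Cfsg.IsStronglyClosed.eq_def.{0}
  have := @Cfsg.IsStronglyClosed.congr_simp.{0}
  have := @Cfsg.IsInternalDirectProduct.eq_1.{0}
  have := @Cfsg.IsInternalDirectProduct.eq_def.{0}
  have := @Cfsg.IsInternalDirectProduct.congr_simp.{0}
  have := @Cfsg.IsPUniquenessSubgroup.eq_1.{0}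
  have := @Cfsg.IsPUniquenessSubgroup.eq_def.{0}
  have := @Cfsg.IsPUniquenessSubgroup.congr_simp.{0}
  have := @Cfsg.IsFM9.eq_1
  have := @Cfsg.IsFM9.eq_def
  have := @Cfsg.IsFM9.congr_simp
  have := @Cfsg.IsChevSimple.eq_1.{0}
  have := @Cfsg.IsChevSimple.eq_def.{0}
  have := @Cfsg.IsChevSimple.congr_simp.{0}
  have := @Cfsg.IsCFiveListed.eq_1.{0}
  have := @Cfsg.IsCFiveListed.eq_def.{0}
  have := @Cfsg.IsCFiveListed.congr_simp.{0}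
  have := @Cfsg.PRankAtLeast.eq_1.{0}
  have := @Cfsg.PRankAtLeast.eq_def.{0}
  have := @Cfsg.PRankAtLeast.congr_simp.{0}
  have := @Cfsg.IsTerminalPair.eq_1.{0}
  have := @Cfsg.IsTerminalPair.eq_def.{0}
  have := @Cfsg.IsTerminalPair.congr_simp.{0}
  have := @Cfsg.ControlsStrongFusionOf.eq_1.{0}
  have := @Cfsg.ControlsStrongFusionOf.eq_def.{0}
  have := @Cfsg.ControlsStrongFusionOf.congr_simp.{0}
  have := @Cfsg.IsStandardWrt.eq_1.{0}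
  have := @Cfsg.IsStandardWrt.eq_def.{0}
  have := @Cfsg.IsStandardWrt.congr_simp.{0}
  have := @Cfsg.IsTwoUniquenessSubgroup.eq_1.{0}
  have := @Cfsg.IsTwoUniquenessSubgroup.eq_def.{0}
  have := @Cfsg.IsTwoUniquenessSubgroup.congr_simp.{0}
  have := @Cfsg.InducesUnitaryTypeAut.eq_1.{0}
  have := @Cfsg.InducesUnitaryTypeAut.eq_def.{0}
  have := @Cfsg.InducesUnitaryTypeAut.congr_simp.{0}
  have := @Cfsg.IsStronglyZEmbedded.eq_1.{0}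
  have := @Cfsg.IsStronglyZEmbedded.eq_def.{0}
  have := @Cfsg.IsStronglyZEmbedded.congr_simp.{0}
  have := @Cfsg.IsCThreeListed.eq_1.{0}
  have := @Cfsg.IsCThreeListed.eq_def.{0}
  have := @Cfsg.IsCThreeListed.congr_simp.{0}
  have := @Cfsg.IsStronglyPEmbedded.eq_1.{0}
  have := @Cfsg.IsStronglyPEmbedded.eq_def.{0}
  have := @Cfsg.IsStronglyPEmbedded.congr_simp.{0}
  have := @Cfsg.sigmaSet.eq_1.{0}
  have := @Cfsg.sigmaSet.eq_def.{0}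
  have := @Cfsg.sigmaSet.congr_simp.{0}
  have := @Cfsg.IsCpSimple.eq_1.{0}
  have := @Cfsg.IsCpSimple.eq_def.{0}
  have := @Cfsg.IsCpSimple.congr_simp.{0}
  have := @Cfsg.InChev.eq_1.{0}
  have := @Cfsg.InChev.eq_def.{0}
  have := @Cfsg.InChev.congr_simp.{0}
  have := @Cfsg.IsOfQuasithinType.eq_1.{0}
  have := @Cfsg.IsOfQuasithinType.eq_def.{0}
  have := @Cfsg.IsOfQuasithinType.congr_simp.{0}
  have := @Cfsg.maxTwoLocalsNear.eq_1.{0}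
  have := @Cfsg.maxTwoLocalsNear.eq_def.{0}
  have := @Cfsg.maxTwoLocalsNear.congr_simp.{0}
  have := @Cfsg.IsComponentOf.eq_1.{0}
  have := @Cfsg.IsComponentOf.eq_def.{0}
  have := @Cfsg.IsComponentOf.congr_simp.{0}
  have := @Cfsg.ControlsFusion.eq_1.{0}
  have := @Cfsg.ControlsFusion.eq_def.{0}
  have := @Cfsg.ControlsFusion.congr_simp.{0}
  have := @Cfsg.IsCTwoListed.eq_1.{0}
  have := @Cfsg.IsCTwoListed.eq_def.{0}
  have := @Cfsg.IsCTwoListed.congr_simp.{0}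
  have := @Cfsg.LpoAll.eq_1.{0}
  have := @Cfsg.LpoAll.eq_def.{0}
  have := @Cfsg.LpoAll.congr_simp.{0}
  have := @Cfsg.InC.eq_1.{0}
  have := @Cfsg.InC.eq_def.{0}
  have := @Cfsg.InC.congr_simp.{0}
  have := @Cfsg.fixedSubgroup.eq_1.{0}
  have := @Cfsg.fixedSubgroup.eq_def.{0}
  have := @Cfsg.fixedSubgroup.congr_simp.{0}
  have := @Cfsg.maxTwoLocalsOver.eq_1.{0}
  have := @Cfsg.maxTwoLocalsOver.eq_def.{0}
  have := @Cfsg.maxTwoLocalsOver.congr_simp.{0}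
  have := @Cfsg.IsPreuniquenessSubgroup.eq_1.{0}
  have := @Cfsg.IsPreuniquenessSubgroup.eq_def.{0}
  have := @Cfsg.IsPreuniquenessSubgroup.congr_simp.{0}
  have := @Cfsg.IsCpException.eq_1.{0}
  have := @Cfsg.IsCpException.eq_def.{0}
  have := @Cfsg.IsCpException.congr_simp.{0}
  have := @Cfsg.IsOfEvenType.eq_1.{0}
  have := @Cfsg.IsOfEvenType.eq_def.{0}
  have := @Cfsg.IsOfEvenType.congr_simp.{0}
  have := @Cfsg.gammaTwoCirc.eq_1.{0}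
  have := @Cfsg.gammaTwoCirc.eq_def.{0}
  have := @Cfsg.gammaTwoCirc.congr_simp.{0}
  have := @Cfsg.LpAll.eq_1.{0}
  have := @Cfsg.LpAll.eq_def.{0}
  have := @Cfsg.LpAll.congr_simp.{0}
  have := @Cfsg.IsOfRestrictedEvenType.eq_1.{0}
  have := @Cfsg.IsOfRestrictedEvenType.eq_def.{0}
  trivial

end CA.EqAll
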